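import Cfsg.Agent.BlocksLocal.Covering
import Cfsg.Agent.Blocks.InducedDefect
import Cfsg.Agent.Blocks.Height

/-!
# The Fong–Reynolds correspondence

`N` normal in `G`, `b` a block of `N` with stabiliser `T`.  The characters of `T` over `b` form a
union of blocks, induction maps them bijectively to the characters of `G` over `b`, and the image
of each block is a block.
-/

set_option autoImplicit false
set_option linter.style.haveILetI false
set_option linter.unusedSectionVars false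

namespace CfsgLib.BlockDegrees.FongReynolds

open Cfsg CfsgLib.Blocks CfsgLib.BlocksLocal CfsgLib.OddOrderChar CfsgLib.CharactersDeep.Clifford
open scoped ComplexConjugate

universe u

variable {G : Type u} [Group G] [Fintype G] (N : Subgroup G) [hN : N.Normal] [Fintype N]

/-- The stabiliser condition, in the shape used by the statements. -/
def IsStab (b : Set (IrrCharacter N)) (T : Subgroup G) : Prop :=
  ∀ g : G, g ∈ T ↔ ∀ θ ∈ b, ∀ θ' : IrrCharacter N,
    (∀ n : N, (θ' : N → ℂ) n = (θ : N → ℂ) ⟨g * n * g⁻¹, hN.conj_mem n n.2 g⟩) → θ' ∈ b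

/-- `η` has a constituent in `b`. -/
def Over (b : Set (IrrCharacter N)) {T : Subgroup G} (hNT : N ≤ T) (η : IrrCharacter T) : Prop :=
  ∃ θ ∈ b, Cfsg.classInner (fun n : N => (η : T → ℂ) ⟨(n : G), hNT n.2⟩) (θ : N → ℂ) ≠ 0

/-- `χ` has a constituent in `b`. -/
def OverG (b : Set (IrrCharacter N)) (χ : IrrCharacter G) : Prop :=
  ∃ θ ∈ b, Cfsg.classInner (fun n : N => (χ : G → ℂ) n) (θ : N → ℂ) ≠ 0

variable {N} {M : Ideal AlgInt} [M.IsPrime] {b : Set (IrrCharacter N)}
  {T : Subgroup G} [Fintype T]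

theorem conjIrr_mem_iff (hb : Cfsg.IsPBlock M b) (hT : IsStab N b T) {θ : IrrCharacter N}
    (hθ : θ ∈ b) (g : G) : conjIrr N θ g ∈ b ↔ g ∈ T := by
  refine ⟨fun h => (hT g).2 fun θ₁ hθ₁ θ' hθ' => ?_, fun h => (hT g).1 h θ hθ _ fun n => rfl⟩
  have e : θ' = conjIrr N θ₁ g := Subtype.ext (funext hθ')
  rw [eq_blockOf_of_mem hb hθ, mem_blockOf] at hθ₁
  rw [e, eq_blockOf_of_mem hb h, mem_blockOf]
  exact sameBlock_conjIrr N hθ₁ g

theorem isCharacter_resN (hNT : N ≤ T) (η : IrrCharacter T) :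
    Cfsg.IsCharacter N (fun n : N => (η : T → ℂ) ⟨(n : G), hNT n.2⟩) :=
  Characters.isCharacter_comp (Subgroup.inclusion hNT) (Characters.isCharacter_of_isIrr η.2)

/-- The multiplicity of `θ` in the restriction of `η`. -/
noncomputable def multT (hNT : N ≤ T) (η : IrrCharacter T) (θ : IrrCharacter N) : ℕ :=
  (Characters.classInner_character_irr (isCharacter_resN hNT η) θ.2).choose

theorem multT_spec (hNT : N ≤ T) (η : IrrCharacter T) (θ : IrrCharacter N) :
    Cfsg.classInner (fun n : N => (η : T → ℂ) ⟨(n : G), hNT n.2⟩) (θ : N → ℂ) = multT hNT η θ :=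
  (Characters.classInner_character_irr (isCharacter_resN hNT η) θ.2).choose_spec

/-- The multiplicity of `θ` in the restriction of `χ`. -/
noncomputable def multG (χ : IrrCharacter G) (θ : IrrCharacter N) : ℕ :=
  (Characters.classInner_character_irr
    (Characters.isCharacter_restrict N (Characters.isCharacter_of_isIrr χ.2)) θ.2).choose

theorem multG_spec (χ : IrrCharacter G) (θ : IrrCharacter N) :
    Cfsg.classInner (fun n : N => (χ : G → ℂ) n) (θ : N → ℂ) = multG χ θ :=
  (Characters.classInner_character_irr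
    (Characters.isCharacter_restrict N (Characters.isCharacter_of_isIrr χ.2)) θ.2).choose_spec

open Classical in
/-- The degree of the `b`-part of the restriction of `η`. -/
noncomputable def bdegT (b : Set (IrrCharacter N)) (hNT : N ≤ T) (η : IrrCharacter T) : ℕ :=
  ∑ θ : IrrCharacter N,
    if θ ∈ b then Cfsg.charDegree (θ : N → ℂ) * multT hNT η θ else 0

open Classical in
/-- The block idempotent of `b`, as a function on `T`. -/
noncomputable def idemFun (b : Set (IrrCharacter N)) (T : Subgroup G) : T → ℂ :=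
  fun t => if h : (t : G) ∈ N then Cfsg.blockCoeff b ⟨t, h⟩ else 0

theorem blockCoeff_conj_stab (hb : Cfsg.IsPBlock M b) (hT : IsStab N b T) (t : T) (n : N) :
    Cfsg.blockCoeff b (MulAut.conjNormal (H := N) (t : G) n) = Cfsg.blockCoeff b n := by
  classical
  rw [blockCoeff_eq_sum, blockCoeff_eq_sum]
  congr 1
  let e : IrrCharacter N ≃ IrrCharacter N :=
    { toFun := fun θ => conjIrr N θ (t : G)
      invFun := fun θ => conjIrr N θ (t : G)⁻¹
      left_inv := fun θ => by simp [conjIrr_mul, conjIrr_one]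
      right_inv := fun θ => by simp [conjIrr_mul, conjIrr_one] }
  refine Fintype.sum_equiv e _ _ fun θ => ?_
  have hmem : conjIrr N θ (t : G) ∈ b ↔ θ ∈ b := by
    refine ⟨fun h => ?_, fun h => (conjIrr_mem_iff hb hT h _).2 t.2⟩
    have := (conjIrr_mem_iff hb hT h (t : G)⁻¹).2 (T.inv_mem t.2)
    rwa [conjIrr_mul, mul_inv_cancel, conjIrr_one] at this
  have h1 : ∀ x : N, (θ : N → ℂ) (MulAut.conjNormal (H := N) (t : G) x) =
      (conjIrr N θ (t : G) : N → ℂ) x :=
    fun x => congrArg (θ : N → ℂ) (Subtype.ext (by simp [MulAut.conjNormal_apply]))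
  simp only [e, Equiv.coe_fn_mk, hmem, ← h1, map_one]

/-- The block idempotent of `b`, in the centre of the group algebra of `T`. -/
noncomputable def idemT (hb : Cfsg.IsPBlock M b) (hT : IsStab N b T) : Ctr ℂ T :=
  ⟨ofFun (idemFun b T), mem_ctr_iff.2 fun g h => by
    simp only [coeff_ofFun, idemFun, Subgroup.coe_mul, Subgroup.coe_inv]
    by_cases hg : (g : G) ∈ N
    · rw [dif_pos hg, dif_pos (hN.conj_mem _ hg _), ← blockCoeff_conj_stab hb hT h ⟨g, hg⟩]
      congr 1
    · rw [dif_neg hg, dif_neg fun hc => hg (by simpa [mul_assoc] using hN.conj_mem _ hc (h : G)⁻¹)]⟩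

theorem sum_over_T (hNT : N ≤ T) {F : T → ℂ} (h : ∀ t : T, (t : G) ∉ N → F t = 0) :
    ∑ t : T, F t = ∑ n : N, F ⟨(n : G), hNT n.2⟩ :=
  (Fintype.sum_of_injective (fun n : N => (⟨(n : G), hNT n.2⟩ : T))
    (fun a c hac => Subtype.ext (congrArg (fun x : T => (x : G)) hac)) _ _
    (fun t ht => h t fun htN => ht ⟨⟨t, htN⟩, rfl⟩) fun _ => rfl).symm

theorem idemT_mul_self (hb : Cfsg.IsPBlock M b) (hT : IsStab N b T) (hNT : N ≤ T) :
    idemT hb hT * idemT hb hT = idemT hb hT := by
  classical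
  refine ctr_ext fun c => ?_
  rw [Subring.coe_mul, coeff_mul_eq_sum]
  simp only [idemT, coeff_ofFun]
  rw [sum_over_T hNT fun t ht => by simp [idemFun, ht]]
  have hidem : setIdemC b * setIdemC b = setIdemC b := ctr_ext_omega fun χ => by
    rw [map_mul, omega_setIdemC]; split_ifs <;> simp
  by_cases hc : (c : G) ∈ N
  · have h := congrArg (fun z : Ctr ℂ N => (z : MonoidAlgebra ℂ N).coeff ⟨c, hc⟩) hidem
    simp only [Subring.coe_mul, coeff_mul_eq_sum, coeff_setIdemC] at h
    rw [show idemFun b T c = Cfsg.blockCoeff b ⟨c, hc⟩ from dif_pos hc, ← h]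
    refine Finset.sum_congr rfl fun n _ => ?_
    have hmem : (n : G)⁻¹ * (c : G) ∈ N := N.mul_mem (N.inv_mem n.2) hc
    simp only [idemFun, Subgroup.coe_mul, Subgroup.coe_inv, dif_pos n.2, dif_pos hmem]
    congr 1
  · rw [show idemFun b T c = 0 from dif_neg hc]
    refine Finset.sum_eq_zero fun n _ => ?_
    have hmem : (n : G)⁻¹ * (c : G) ∉ N := fun h => hc (by
      simpa using N.mul_mem n.2 h)
    simp only [idemFun, Subgroup.coe_mul, Subgroup.coe_inv, dif_neg hmem, mul_zero]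

theorem omega_idemT (hb : Cfsg.IsPBlock M b) (hT : IsStab N b T) (hNT : N ≤ T)
    (η : IrrCharacter T) :
    omega η (idemT hb hT) * (η : T → ℂ) 1 = (bdegT b hNT η : ℂ) := by
  classical
  rw [omega_apply, div_mul_cancel₀ _ (Characters.irr_one_ne_zero η.2)]
  simp only [idemT, coeff_ofFun]
  rw [sum_over_T hNT fun t ht => by simp [idemFun, ht], bdegT]
  simp only [Nat.cast_sum, Nat.cast_ite, Nat.cast_mul, Nat.cast_zero, charDegree_cast,
    ← multT_spec hNT η]
  simp only [Cfsg.classInner, Finset.mul_sum, idemFun, SetLike.coe_mem, dif_pos,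
    blockCoeff_eq_sum, Finset.sum_mul]
  rw [Finset.sum_comm]
  refine Finset.sum_congr rfl fun θ _ => ?_
  split_ifs
  · exact Finset.sum_congr rfl fun n _ => by ring
  · simp

theorem sum_multT (hNT : N ≤ T) (η : IrrCharacter T) :
    ∑ θ : IrrCharacter N, Cfsg.charDegree (θ : N → ℂ) * multT hNT η θ =
      Cfsg.charDegree (η : T → ℂ) := by
  apply Nat.cast_injective (R := ℂ)
  push_cast
  rw [charDegree_cast η]
  have h := congrFun (Characters.classFunction_expansion
    (Characters.isClassFunction_of_isCharacter (isCharacter_resN hNT η))) 1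
  simp only [Finset.sum_apply, Pi.smul_apply, smul_eq_mul, multT_spec, OneMemClass.coe_one] at h
  refine Eq.trans ?_ h.symm
  exact Finset.sum_congr rfl fun θ _ => by rw [charDegree_cast, mul_comm]

theorem over_iff (hNT : N ≤ T) (η : IrrCharacter T) :
    Over N b hNT η ↔ bdegT b hNT η ≠ 0 := by
  classical
  rw [bdegT, ne_eq, Finset.sum_eq_zero_iff]
  push Not
  refine exists_congr fun θ => ?_
  rw [multT_spec hNT η θ, Nat.cast_ne_zero]
  constructor
  · rintro ⟨h1, h2⟩
    exact ⟨Finset.mem_univ _, by rw [if_pos h1]; exact mul_ne_zero (charDegree_ne_zero θ) h2⟩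
  · rintro ⟨-, h⟩
    by_cases h1 : θ ∈ b
    · rw [if_pos h1] at h; exact ⟨h1, (mul_ne_zero_iff.1 h).2⟩
    · rw [if_neg h1] at h; exact absurd rfl h

theorem bdegT_cases (hb : Cfsg.IsPBlock M b) (hT : IsStab N b T) (hNT : N ≤ T)
    (η : IrrCharacter T) :
    bdegT b hNT η = 0 ∨ bdegT b hNT η = Cfsg.charDegree (η : T → ℂ) := by
  have h := omega_idemT hb hT hNT η
  have hh := congrArg (omega η) (idemT_mul_self hb hT hNT)
  rw [map_mul] at hh
  rcases eq_or_ne (omega η (idemT hb hT)) 0 with h0 | h0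
  · rw [h0, zero_mul] at h
    exact Or.inl (by exact_mod_cast h.symm)
  · rw [mul_left_eq_self₀] at hh
    rw [hh.resolve_right h0, one_mul, ← charDegree_cast] at h
    exact Or.inr (by exact_mod_cast h.symm)

open Classical in
theorem bdegT_eq (hb : Cfsg.IsPBlock M b) (hT : IsStab N b T) (hNT : N ≤ T)
    (η : IrrCharacter T) :
    bdegT b hNT η = if Over N b hNT η then Cfsg.charDegree (η : T → ℂ) else 0 := by
  split_ifs with h
  · exact (bdegT_cases hb hT hNT η).resolve_left ((over_iff hNT η).1 h)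
  · exact not_not.1 fun h0 => h ((over_iff hNT η).2 h0)

open Classical in
/-- The characters over `b` form a union of blocks of `T`. -/
theorem isBlockUnion_over (hb : Cfsg.IsPBlock M b) (hT : IsStab N b T) (hNT : N ≤ T) :
    IsBlockUnion M {η : IrrCharacter T | Over N b hNT η} := by
  have e : setIdemC {η : IrrCharacter T | Over N b hNT η} = idemT hb hT := by
    refine ctr_ext_omega fun η => ?_
    refine mul_right_cancel₀ (Characters.irr_one_ne_zero η.2) ?_
    rw [omega_idemT hb hT hNT, omega_setIdemC, bdegT_eq hb hT hNT, Set.mem_setOf_eq]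
    split_ifs <;> simp [charDegree_cast]
  refine isBlockUnion_of_memLocalRing fun t => ?_
  have h := congrArg (fun z : Ctr ℂ T => (z : MonoidAlgebra ℂ T).coeff t) e
  simp only [coeff_setIdemC, idemT, coeff_ofFun, idemFun] at h
  rw [h]
  split_ifs
  · exact memLocalRing_blockCoeff (isBlockUnion_of_isPBlock hb) _
  · exact Subring.zero_mem (localRing M)

open Classical in
/-- The degree of the `b`-part of a character of `G` over `b`. -/
theorem degree_eq_index_mul (hb : Cfsg.IsPBlock M b) (hT : IsStab N b T) {χ : IrrCharacter G}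
    (hχ : OverG N b χ) : Cfsg.charDegree (χ : G → ℂ) = T.index *
      ∑ θ : IrrCharacter N, if θ ∈ b then Cfsg.charDegree (θ : N → ℂ) * multG χ θ else 0 := by
  obtain ⟨θ₀, hθ₀, hne₀⟩ := hχ
  have hcl := Characters.isClassFunction_of_isIrr χ.2
  have hdeg : ∀ (φ : IrrCharacter N) (g : G),
      Cfsg.charDegree (conjIrr N φ g : N → ℂ) = Cfsg.charDegree (φ : N → ℂ) := fun φ g => by
    apply Nat.cast_injective (R := ℂ)
    rw [charDegree_cast, charDegree_cast, coe_conjIrr, conjBy_apply]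
    exact congrArg (φ : N → ℂ) (Subtype.ext (by simp))
  have hmult : ∀ (φ : IrrCharacter N) (g : G), multG χ (conjIrr N φ g) = multG χ φ := fun φ g => by
    apply Nat.cast_injective (R := ℂ)
    rw [← multG_spec, ← multG_spec, coe_conjIrr, classInner_restrict_conjBy N hcl]
  have hsum : ∑ φ : IrrCharacter N, Cfsg.charDegree (φ : N → ℂ) * multG χ φ =
      Cfsg.charDegree (χ : G → ℂ) := by
    apply Nat.cast_injective (R := ℂ)
    push_cast
    rw [charDegree_cast χ]
    have h := congrFun (Characters.classFunction_expansion (Characters.isClassFunction_of_isCharacter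
      (Characters.isCharacter_restrict N (Characters.isCharacter_of_isIrr χ.2)))) 1
    simp only [Finset.sum_apply, Pi.smul_apply, smul_eq_mul, multG_spec,
      OneMemClass.coe_one] at h
    refine Eq.trans ?_ h.symm
    exact Finset.sum_congr rfl fun θ _ => by rw [charDegree_cast, mul_comm]
  set D := ∑ θ : IrrCharacter N,
    if θ ∈ b then Cfsg.charDegree (θ : N → ℂ) * multG χ θ else 0 with hD
  have h1 : ∀ g : G, ∑ φ : IrrCharacter N, (if conjIrr N φ g ∈ b then
      Cfsg.charDegree (φ : N → ℂ) * multG χ φ else 0) = D := by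
    intro g
    let e : IrrCharacter N ≃ IrrCharacter N :=
      { toFun := fun θ => conjIrr N θ g
        invFun := fun θ => conjIrr N θ g⁻¹
        left_inv := fun θ => by simp [conjIrr_mul, conjIrr_one]
        right_inv := fun θ => by simp [conjIrr_mul, conjIrr_one] }
    refine Fintype.sum_equiv e _ _ fun φ => ?_
    simp only [e, Equiv.coe_fn_mk, hdeg, hmult]
  have h2 : ∀ φ : IrrCharacter N, ∑ g : G, (if conjIrr N φ g ∈ b then
      Cfsg.charDegree (φ : N → ℂ) * multG χ φ else 0) =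
        Nat.card T * (Cfsg.charDegree (φ : N → ℂ) * multG χ φ) := by
    intro φ
    rcases Nat.eq_zero_or_pos (multG χ φ) with h0 | h0
    · simp [h0]
    · obtain ⟨x, hx⟩ := exists_conjBy_of_constituents N χ.2 θ₀.2 φ.2 hne₀
        (by rw [multG_spec]; exact_mod_cast h0.ne')
      have hφ : φ = conjIrr N θ₀ x := Subtype.ext hx
      rw [← Finset.sum_filter, Finset.sum_const, smul_eq_mul]
      congr 1
      rw [← Fintype.card_subtype, ← Nat.card_eq_fintype_card]
      refine Nat.card_congr (Equiv.subtypeEquiv (Equiv.mulLeft x) fun g => ?_)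
      rw [hφ, conjIrr_mul, conjIrr_mem_iff hb hT hθ₀]
      rfl
  have h3 : Nat.card G * D = Nat.card T * Cfsg.charDegree (χ : G → ℂ) := by
    rw [← hsum, Finset.mul_sum Finset.univ _ (Nat.card T), ← Finset.sum_congr rfl fun φ _ => h2 φ, Finset.sum_comm,
      Finset.sum_congr rfl fun g _ => h1 g, Finset.sum_const, Finset.card_univ, smul_eq_mul,
      Nat.card_eq_fintype_card]
  rw [← Subgroup.index_mul_card T, mul_comm T.index, mul_assoc] at h3
  exact (Nat.eq_of_mul_eq_mul_left Nat.card_pos h3).symm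

open Classical in
/-- The correspondence, from the side of `G`. -/
theorem exists_unique_over (hb : Cfsg.IsPBlock M b) (hT : IsStab N b T) (hNT : N ≤ T)
    {χ : IrrCharacter G} (hχ : OverG N b χ) :
    ∃ ψ : IrrCharacter T, Over N b hNT ψ ∧ Cfsg.indFun T (ψ : T → ℂ) = (χ : G → ℂ) ∧
      ∀ η : IrrCharacter T, Over N b hNT η →
        Cfsg.classInner (fun t : T => (χ : G → ℂ) t) (η : T → ℂ) ≠ 0 → η = ψ := by
  have hχ' := Characters.isCharacter_restrict T (Characters.isCharacter_of_isIrr χ.2)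
  obtain ⟨m, hm⟩ := Characters.exists_nat_coeff hχ'
  have hmi : ∀ η : IrrCharacter T,
      Cfsg.classInner (fun t : T => (χ : G → ℂ) t) (η : T → ℂ) = (m η : ℂ) := fun η => by
    rw [hm, Characters.classInner_irr_coeff]
  have hD : (∑ θ : IrrCharacter N,
      if θ ∈ b then Cfsg.charDegree (θ : N → ℂ) * multG χ θ else 0) =
        ∑ η : IrrCharacter T, m η * bdegT b hNT η := by
    simp only [bdegT, Finset.mul_sum]
    rw [Finset.sum_comm]
    refine Finset.sum_congr rfl fun θ _ => ?_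
    split_ifs
    · apply Nat.cast_injective (R := ℂ)
      push_cast
      rw [← multG_spec]
      have e : (fun n : N => (χ : G → ℂ) n) =
          ∑ η : IrrCharacter T, (m η : ℂ) • fun n : N => (η : T → ℂ) ⟨(n : G), hNT n.2⟩ := by
        funext n
        have := congrFun hm ⟨(n : G), hNT n.2⟩
        simp only [Finset.sum_apply, Pi.smul_apply, smul_eq_mul] at this ⊢
        exact this
      rw [e, Characters.classInner_sum_left, Finset.mul_sum]
      refine Finset.sum_congr rfl fun η _ => ?_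
      rw [Characters.classInner_smul_left, multT_spec]
      ring
    · simp
  have hd := degree_eq_index_mul hb hT hχ
  rw [hD] at hd
  obtain ⟨ψ, -, hψ⟩ : ∃ ψ ∈ (Finset.univ : Finset (IrrCharacter T)),
      m ψ * bdegT b hNT ψ ≠ 0 := by
    refine Finset.exists_ne_zero_of_sum_ne_zero fun h0 => ?_
    rw [h0, mul_zero] at hd
    exact charDegree_ne_zero χ hd
  have hψov : Over N b hNT ψ := (over_iff hNT ψ).2 fun h => hψ (by rw [h, mul_zero])
  have hψd : bdegT b hNT ψ = Cfsg.charDegree (ψ : T → ℂ) := by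
    rw [bdegT_eq hb hT hNT, if_pos hψov]
  have hsingle : m ψ * bdegT b hNT ψ ≤ ∑ η : IrrCharacter T, m η * bdegT b hNT η :=
    Finset.single_le_sum (f := fun η => m η * bdegT b hNT η) (fun _ _ => Nat.zero_le _)
      (Finset.mem_univ ψ)
  have hmψ : 0 < m ψ := Nat.pos_of_ne_zero fun h => hψ (by rw [h, zero_mul])
  have hind : Cfsg.indFun T (ψ : T → ℂ) = (χ : G → ℂ) := by
    refine eq_of_constituent_of_degree_le (Characters.isCharacter_indFun T
      (Characters.isCharacter_of_isIrr ψ.2)) χ.2 ?_ (a := T.index * Cfsg.charDegree (ψ : T → ℂ))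
      (b := Cfsg.charDegree (χ : G → ℂ)) ?_ (charDegree_cast χ).symm ?_
    · rw [Characters.classInner_indFun T _ (Characters.isClassFunction_of_isIrr χ.2),
        Characters.classInner_conj_symm, hmi, Complex.conj_natCast]
      exact_mod_cast hmψ.ne'
    · rw [Characters.indFun_one, ← charDegree_cast]; push_cast; rfl
    · rw [hd]
      refine Nat.mul_le_mul_left _ (le_trans ?_ hsingle)
      rw [hψd]
      exact Nat.le_mul_of_pos_left _ hmψ
  refine ⟨ψ, hψov, hind, fun η hη hne => ?_⟩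
  by_contra hηψ
  have hmη : 0 < m η := Nat.pos_of_ne_zero fun h => hne (by rw [hmi, h, Nat.cast_zero])
  have hdeq : Cfsg.charDegree (χ : G → ℂ) = T.index * Cfsg.charDegree (ψ : T → ℂ) := by
    apply Nat.cast_injective (R := ℂ)
    rw [charDegree_cast χ, ← hind, Characters.indFun_one, ← charDegree_cast]
    push_cast
    rfl
  have hpair : m ψ * bdegT b hNT ψ + m η * bdegT b hNT η ≤
      ∑ η : IrrCharacter T, m η * bdegT b hNT η := by
    rw [← Finset.sum_pair (f := fun η => m η * bdegT b hNT η) (fun h => hηψ h.symm)]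
    exact Finset.sum_le_sum_of_subset (Finset.subset_univ _)
  have hpos : 0 < m η * bdegT b hNT η :=
    Nat.mul_pos hmη (Nat.pos_of_ne_zero ((over_iff hNT η).1 hη))
  have hge : Cfsg.charDegree (ψ : T → ℂ) ≤ m ψ * bdegT b hNT ψ := by
    rw [hψd]; exact Nat.le_mul_of_pos_left _ hmψ
  have := Nat.eq_of_mul_eq_mul_left (Nat.pos_of_ne_zero Subgroup.index_ne_zero_of_finite)
    (hdeq.symm.trans hd)
  omega

/-- The correspondence, from the side of `T`. -/
theorem indFun_over (hb : Cfsg.IsPBlock M b) (hT : IsStab N b T) (hNT : N ≤ T)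
    {ψ : IrrCharacter T} (hψ : Over N b hNT ψ) :
    ∃ χ : IrrCharacter G, (χ : G → ℂ) = Cfsg.indFun T (ψ : T → ℂ) ∧ OverG N b χ := by
  classical
  obtain ⟨χ, hχ⟩ : ∃ χ : IrrCharacter G,
      Cfsg.classInner (fun t : T => (χ : G → ℂ) t) (ψ : T → ℂ) ≠ 0 := by
    by_contra hno
    push Not at hno
    have h0 : Cfsg.indFun T (ψ : T → ℂ) = 0 := by
      refine Characters.classFunction_eq_zero (Characters.isClassFunction_indFun T _) fun χ => ?_
      rw [Characters.classInner_indFun T _ (Characters.isClassFunction_of_isIrr χ.2),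
        Characters.classInner_conj_symm, hno χ, map_zero]
    have h1 := Characters.indFun_one T (ψ : T → ℂ)
    rw [h0, Pi.zero_apply, eq_comm, mul_eq_zero] at h1
    exact h1.elim (Nat.cast_ne_zero.2 Subgroup.index_ne_zero_of_finite)
      (Characters.irr_one_ne_zero ψ.2)
  have hov : OverG N b χ := by
    obtain ⟨θ, hθ, hne⟩ := hψ
    refine ⟨θ, hθ, ?_⟩
    have hχ' := Characters.isCharacter_restrict T (Characters.isCharacter_of_isIrr χ.2)
    obtain ⟨m, hm⟩ := Characters.exists_nat_coeff hχ'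
    have hmψ : m ψ ≠ 0 := fun h => hχ (by
      rw [hm, Characters.classInner_irr_coeff, h, Nat.cast_zero])
    rw [multT_spec hNT ψ θ, Nat.cast_ne_zero] at hne
    have e : (fun n : N => (χ : G → ℂ) n) =
        ∑ η : IrrCharacter T, (m η : ℂ) • fun n : N => (η : T → ℂ) ⟨(n : G), hNT n.2⟩ := by
      funext n
      have := congrFun hm ⟨(n : G), hNT n.2⟩
      simp only [Finset.sum_apply, Pi.smul_apply, smul_eq_mul] at this ⊢
      exact this
    rw [e, Characters.classInner_sum_left]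
    simp only [Characters.classInner_smul_left, multT_spec, ← Nat.cast_mul, ← Nat.cast_sum,
      Nat.cast_ne_zero]
    intro h0
    exact mul_ne_zero hmψ hne (Finset.sum_eq_zero_iff.1 h0 ψ (Finset.mem_univ _))
  obtain ⟨ψ', -, hind, huniq⟩ := exists_unique_over hb hT hNT hov
  exact ⟨χ, by rw [huniq ψ hψ hχ]; exact hind.symm, hov⟩

theorem indFun_injective (hb : Cfsg.IsPBlock M b) (hT : IsStab N b T) (hNT : N ≤ T)
    {ψ ψ' : IrrCharacter T} (hψ : Over N b hNT ψ) (hψ' : Over N b hNT ψ')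
    (h : Cfsg.indFun T (ψ : T → ℂ) = Cfsg.indFun T (ψ' : T → ℂ)) : ψ = ψ' := by
  obtain ⟨χ, hχ, hov⟩ := indFun_over hb hT hNT hψ
  obtain ⟨ψ₀, -, -, huniq⟩ := exists_unique_over hb hT hNT hov
  have hne : ∀ η : IrrCharacter T, Cfsg.indFun T (η : T → ℂ) = (χ : G → ℂ) →
      Cfsg.classInner (fun t : T => (χ : G → ℂ) t) (η : T → ℂ) ≠ 0 := fun η he => by
    rw [Characters.classInner_conj_symm,
      ← Characters.classInner_indFun T _ (Characters.isClassFunction_of_isIrr χ.2), he,
      Characters.classInner_isIrr_self χ.2, map_one]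
    exact one_ne_zero
  rw [huniq ψ hψ (hne ψ hχ.symm), huniq ψ' hψ' (hne ψ' (h.symm.trans hχ.symm))]

theorem over_of_mem_block (hb : Cfsg.IsPBlock M b) (hT : IsStab N b T) (hNT : N ≤ T)
    {B' : Set (IrrCharacter T)} (hB' : Cfsg.IsPBlock M B') (hcov : ∃ ψ ∈ B', Over N b hNT ψ)
    {ψ : IrrCharacter T} (hψ : ψ ∈ B') : Over N b hNT ψ := by
  obtain ⟨ψ₀, hψ₀, hov⟩ := hcov
  rw [eq_blockOf_of_mem hB' hψ₀] at hψ
  exact isBlockUnion_over hb hT hNT ψ₀ hov hψ

theorem memLocalRing_indFun {f : T → ℂ} (hf : Cfsg.IsClassFunction T f)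
    (h : ∀ t, Cfsg.MemLocalRing M (f t)) (g : G) :
    Cfsg.MemLocalRing M (Cfsg.indFun T f g) := by
  haveI := Fintype.ofFinite (G ⧸ T)
  classical
  have hinv : ∀ (k : T) (y : G),
      Cfsg.extendByZero T f ((k : G)⁻¹ * y * k) = Cfsg.extendByZero T f y := by
    intro k y
    by_cases hy : y ∈ T
    · rw [show (k : G)⁻¹ * y * k = ((k⁻¹ * ⟨y, hy⟩ * k : T) : G) from rfl,
        Characters.extendByZero_coe, Characters.extendByZero_of_mem T f hy]
      simpa using hf ⟨y, hy⟩ k⁻¹
    · rw [Characters.extendByZero_of_not_mem T f hy, Characters.extendByZero_of_not_mem]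
      intro h
      exact hy (by simpa [mul_assoc] using T.mul_mem (T.mul_mem k.2 h) (T.inv_mem k.2))
  have key : ∑ x : G, Cfsg.extendByZero T f (x⁻¹ * g * x) =
      (Nat.card T : ℂ) * ∑ q : G ⧸ T, Cfsg.extendByZero T f ((Quotient.out q)⁻¹ * g * Quotient.out q) := by
    rw [← Finset.sum_fiberwise (s := Finset.univ) (fun x : G => (x : G ⧸ T)), Finset.mul_sum]
    refine Finset.sum_congr rfl fun q _ => ?_
    classical
    rw [Finset.sum_congr rfl (g := fun _ =>
      Cfsg.extendByZero T f ((Quotient.out q)⁻¹ * g * Quotient.out q)) fun x hx => ?_,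
      Finset.sum_const, nsmul_eq_mul]
    · congr 2
      rw [← Fintype.card_subtype, ← Nat.card_eq_fintype_card]
      refine Nat.card_congr
        { toFun := fun x => ⟨(Quotient.out q)⁻¹ * x.1, QuotientGroup.eq.1
            ((QuotientGroup.out_eq' q).trans x.2.symm)⟩
          invFun := fun t => ⟨Quotient.out q * t, by
            rw [QuotientGroup.mk_mul_of_mem _ t.2, QuotientGroup.out_eq']⟩
          left_inv := fun x => Subtype.ext (by simp)
          right_inv := fun t => Subtype.ext (by simp) }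
    · have hx' : (x : G ⧸ T) = q := (Finset.mem_filter.1 hx).2
      have := hinv ⟨(Quotient.out q)⁻¹ * x, QuotientGroup.eq.1
        ((QuotientGroup.out_eq' q).trans hx'.symm)⟩ ((Quotient.out q)⁻¹ * g * Quotient.out q)
      rw [← this]
      congr 1
      group
  rw [Cfsg.indFun, key, ← mul_assoc,
    inv_mul_cancel₀ (Characters.subgroup_card_ne_zero T), one_mul]
  refine Subring.sum_mem (localRing M) fun q _ => ?_
  by_cases hq : (Quotient.out q)⁻¹ * g * Quotient.out q ∈ T
  · rw [Characters.extendByZero_of_mem T f hq]; exact h _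
  · rw [Characters.extendByZero_of_not_mem T f hq]; exact Subring.zero_mem (localRing M)

/-- A block over `b` induces a block, made of the induced characters. -/
theorem inducedBlock (hb : Cfsg.IsPBlock M b) (hT : IsStab N b T) (hNT : N ≤ T)
    {B' : Set (IrrCharacter T)} (hB' : Cfsg.IsPBlock M B') (hcov : ∃ ψ ∈ B', Over N b hNT ψ) :
    ∃ B : Set (IrrCharacter G), Cfsg.IsInducedBlock M T B' B ∧ (∃ χ ∈ B, OverG N b χ) ∧
      (∀ ψ ∈ B', Cfsg.IsIrrCharacter G (Cfsg.indFun T (ψ : T → ℂ))) ∧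
      ∀ χ : IrrCharacter G, χ ∈ B ↔ ∃ ψ ∈ B', (χ : G → ℂ) = Cfsg.indFun T (ψ : T → ℂ) := by
  classical
  have hov : ∀ ψ ∈ B', Over N b hNT ψ := fun ψ hψ => over_of_mem_block hb hT hNT hB' hcov hψ
  have hirr : ∀ ψ ∈ B', Cfsg.IsIrrCharacter G (Cfsg.indFun T (ψ : T → ℂ)) := fun ψ hψ => by
    obtain ⟨χ, hχ, -⟩ := indFun_over hb hT hNT (hov ψ hψ)
    exact hχ ▸ χ.2
  obtain ⟨ψ₀, hψ₀⟩ := isPBlock_nonempty hB'
  obtain ⟨χ₀, hχ₀, hovG⟩ := indFun_over hb hT hNT (hov ψ₀ hψ₀)
  have hindB : ∀ (ψ : IrrCharacter T), ψ ∈ B' → ∀ χ : IrrCharacter G,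
      (χ : G → ℂ) = Cfsg.indFun T (ψ : T → ℂ) →
        Cfsg.IsInducedBlock M T B' (Cfsg.blockOf M (χ : G → ℂ)) := fun ψ hψ χ hχ => by
    refine isInducedBlock_of_classSum T hB' (isPBlock_blockOf χ) hψ (mem_blockOf_self χ) fun g => ?_
    rw [omegaBar_resCtr_classSum, omegaBar_classSum]
    congr 1
    refine Subtype.ext ?_
    show Cfsg.inducedCentralChar T (ψ : T → ℂ) g = Cfsg.centralChar (χ : G → ℂ) g
    rw [inducedCentralChar_eq_centralChar_indFun, hχ]
  have hind := hindB ψ₀ hψ₀ χ₀ hχ₀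
  set A : Set (IrrCharacter G) :=
    {χ | ∃ ψ ∈ B', (χ : G → ℂ) = Cfsg.indFun T (ψ : T → ℂ)} with hA
  have hsub : A ⊆ Cfsg.blockOf M (χ₀ : G → ℂ) := by
    rintro χ ⟨ψ, hψ, hχ⟩
    rw [← isInducedBlock_unique (hindB ψ hψ χ hχ) hind]
    exact mem_blockOf_self χ
  have hAu : IsBlockUnion M A := by
    refine isBlockUnion_of_memLocalRing fun g => ?_
    have e : Cfsg.blockCoeff A g = Cfsg.indFun T (Cfsg.blockCoeff B') g := by
      have hext : ∀ y : G, Cfsg.extendByZero T (Cfsg.blockCoeff B') y = (Nat.card T : ℂ)⁻¹ *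
          ∑ ψ : IrrCharacter T, if ψ ∈ B' then (ψ : T → ℂ) 1 *
            conj (Cfsg.extendByZero T (ψ : T → ℂ) y) else 0 := fun y => by
        by_cases hy : y ∈ T
        · simp only [Characters.extendByZero_of_mem T _ hy]
          exact blockCoeff_eq_sum _ _
        · simp [Characters.extendByZero_of_not_mem T _ hy]
      rw [Cfsg.indFun]
      simp only [hext, ← Finset.mul_sum]
      rw [blockCoeff_eq_sum, Finset.sum_comm]
      have hin : ∀ ψ : IrrCharacter T, (∑ _x : G, if ψ ∈ B' then (ψ : T → ℂ) 1 *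
          conj (Cfsg.extendByZero T (ψ : T → ℂ) (_x⁻¹ * g * _x)) else 0) =
          if ψ ∈ B' then (ψ : T → ℂ) 1 *
            ∑ x : G, conj (Cfsg.extendByZero T (ψ : T → ℂ) (x⁻¹ * g * x)) else 0 := fun ψ => by
        split_ifs
        · rw [Finset.mul_sum]
        · simp
      simp only [hin]
      simp only [← Finset.sum_filter]
      rw [← mul_assoc, Finset.mul_sum, Finset.mul_sum]
      symm
      refine Finset.sum_bij (fun ψ hψ => (⟨_, hirr ψ (Finset.mem_filter.1 hψ).2⟩ : IrrCharacter G))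
        (fun ψ hψ => by
          simp only [Finset.mem_filter, Finset.mem_univ, true_and] at hψ ⊢
          exact ⟨ψ, hψ, rfl⟩)
        (fun ψ hψ ψ' hψ' he => indFun_injective hb hT hNT (hov ψ (Finset.mem_filter.1 hψ).2)
          (hov ψ' (Finset.mem_filter.1 hψ').2) (congrArg Subtype.val he))
        (fun χ hχ => ?_) fun ψ hψ => ?_
      · simp only [Finset.mem_filter, Finset.mem_univ, true_and] at hχ
        obtain ⟨ψ, hψ, he⟩ := hχ
        exact ⟨ψ, Finset.mem_filter.2 ⟨Finset.mem_univ _, hψ⟩, Subtype.ext he.symm⟩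
      · simp only [Characters.indFun_one]
        rw [Cfsg.indFun, map_mul, map_inv₀, Complex.conj_natCast, map_sum,
          ← Subgroup.index_mul_card T]
        push_cast
        field_simp [Nat.cast_ne_zero (R := ℂ).2 (Subgroup.index_ne_zero_of_finite (H := T)),
          Characters.subgroup_card_ne_zero T]
    rw [e]
    exact memLocalRing_indFun (fun t s => blockCoeff_conj B' t s)
      (memLocalRing_blockCoeff (isBlockUnion_of_isPBlock hB')) g
  have heq : Cfsg.blockOf M (χ₀ : G → ℂ) = A := by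
    refine Set.Subset.antisymm (fun χ hχ => ?_) hsub
    exact hAu χ₀ ⟨ψ₀, hψ₀, hχ₀⟩ hχ
  refine ⟨_, hind, ⟨χ₀, mem_blockOf_self χ₀, hovG⟩, hirr, fun χ => ?_⟩
  rw [heq]
  exact Iff.rfl

/-- Distinct blocks over `b` induce distinct blocks. -/
theorem inducedBlock_injective (hb : Cfsg.IsPBlock M b) (hT : IsStab N b T) (hNT : N ≤ T)
    {B₁ B₂ : Set (IrrCharacter T)} (h₁ : Cfsg.IsPBlock M B₁) (h₂ : Cfsg.IsPBlock M B₂)
    (hc₁ : ∃ ψ ∈ B₁, Over N b hNT ψ) (hc₂ : ∃ ψ ∈ B₂, Over N b hNT ψ)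
    {B : Set (IrrCharacter G)} (hi₁ : Cfsg.IsInducedBlock M T B₁ B)
    (hi₂ : Cfsg.IsInducedBlock M T B₂ B) : B₁ = B₂ := by
  obtain ⟨C₁, hC₁, ⟨χ, hχ, -⟩, -, hm₁⟩ := inducedBlock hb hT hNT h₁ hc₁
  obtain ⟨C₂, hC₂, -, -, hm₂⟩ := inducedBlock hb hT hNT h₂ hc₂
  have e₁ := isInducedBlock_unique hC₁ hi₁
  have e₂ := isInducedBlock_unique hC₂ hi₂
  obtain ⟨ψ₁, hψ₁, hχ₁⟩ := (hm₁ χ).1 hχ
  rw [e₁, ← e₂] at hχ
  obtain ⟨ψ₂, hψ₂, hχ₂⟩ := (hm₂ χ).1 hχ
  have := indFun_injective hb hT hNT (over_of_mem_block hb hT hNT h₁ hc₁ hψ₁)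
    (over_of_mem_block hb hT hNT h₂ hc₂ hψ₂) (hχ₁.symm.trans hχ₂)
  exact isPBlock_eq_of_mem h₁ h₂ hψ₁ (this ▸ hψ₂)

/-- Every block over `b` is induced. -/
theorem exists_inducing (hb : Cfsg.IsPBlock M b) (hT : IsStab N b T) (hNT : N ≤ T)
    {B : Set (IrrCharacter G)} (hB : Cfsg.IsPBlock M B) (hcov : ∃ χ ∈ B, OverG N b χ) :
    ∃ B' : Set (IrrCharacter T), Cfsg.IsPBlock M B' ∧ (∃ ψ ∈ B', Over N b hNT ψ) ∧
      Cfsg.IsInducedBlock M T B' B := by
  obtain ⟨χ, hχ, hov⟩ := hcov
  obtain ⟨ψ, hψ, hind, -⟩ := exists_unique_over hb hT hNT hov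
  have hc : ∃ φ ∈ Cfsg.blockOf M (ψ : T → ℂ), Over N b hNT φ := ⟨ψ, mem_blockOf_self ψ, hψ⟩
  obtain ⟨C, hC, -, -, hm⟩ := inducedBlock hb hT hNT (isPBlock_blockOf ψ) hc
  refine ⟨_, isPBlock_blockOf ψ, hc, ?_⟩
  rwa [isPBlock_eq_of_mem hB hC.2.1 hχ ((hm χ).2 ⟨ψ, mem_blockOf_self ψ, hind.symm⟩)]

/-- Heights and defect groups are preserved. -/
theorem heights {p : ℕ} [Fact p.Prime] (hM : Cfsg.IsPModular p M) (hb : Cfsg.IsPBlock M b)
    (hT : IsStab N b T) (hNT : N ≤ T) {B' : Set (IrrCharacter T)} (hB' : Cfsg.IsPBlock M B')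
    (hcov : ∃ ψ ∈ B', Over N b hNT ψ) {B : Set (IrrCharacter G)}
    (hind : Cfsg.IsInducedBlock M T B' B) :
    (∀ D : Subgroup T, Cfsg.IsDefectGroup p M B' D →
      Cfsg.IsDefectGroup p M B (D.map T.subtype)) ∧
    ∀ ψ ∈ B', ∃ χ ∈ B, (χ : G → ℂ) = Cfsg.indFun T (ψ : T → ℂ) ∧
      Cfsg.blockHeight p B (χ : G → ℂ) = Cfsg.blockHeight p B' (ψ : T → ℂ) := by
  classical
  obtain ⟨C, hC, -, hirr, hm⟩ := inducedBlock hb hT hNT hB' hcov
  rw [isInducedBlock_unique hC hind] at hm
  set v := T.index.factorization p with hv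
  have hdeg : ∀ (χ : IrrCharacter G) (ψ : IrrCharacter T),
      (χ : G → ℂ) = Cfsg.indFun T (ψ : T → ℂ) →
        (Cfsg.charDegree (χ : G → ℂ)).factorization p =
          v + (Cfsg.charDegree (ψ : T → ℂ)).factorization p := by
    intro χ ψ h
    have : Cfsg.charDegree (χ : G → ℂ) = T.index * Cfsg.charDegree (ψ : T → ℂ) := by
      apply Nat.cast_injective (R := ℂ)
      rw [charDegree_cast χ, h, Characters.indFun_one, ← charDegree_cast]
      push_cast
      rfl
    rw [this, Nat.factorization_mul Subgroup.index_ne_zero_of_finite (charDegree_ne_zero ψ),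
      Finsupp.add_apply, hv]
  have hinf : sInf ((fun χ : IrrCharacter G => (Cfsg.charDegree (χ : G → ℂ)).factorization p) '' B)
      = v + sInf ((fun ψ : IrrCharacter T =>
        (Cfsg.charDegree (ψ : T → ℂ)).factorization p) '' B') := by
    obtain ⟨ψ₀, hψ₀, hmin⟩ := Nat.sInf_mem ((isPBlock_nonempty hB').image
      fun ψ : IrrCharacter T => (Cfsg.charDegree (ψ : T → ℂ)).factorization p)
    refine IsLeast.csInf_eq ?_
    constructor
    refine ⟨(⟨_, hirr ψ₀ hψ₀⟩ : IrrCharacter G), (hm _).2 ⟨ψ₀, hψ₀, rfl⟩, ?_⟩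
    · rw [← hmin]; exact hdeg _ ψ₀ rfl
    · rintro _ ⟨χ, hχ, rfl⟩
      obtain ⟨ψ, hψ, he⟩ := (hm χ).1 hχ
      simp only [hdeg χ ψ he]
      exact Nat.add_le_add_left (Nat.sInf_le (Set.mem_image_of_mem
        (fun ψ : IrrCharacter T => (Cfsg.charDegree (ψ : T → ℂ)).factorization p) hψ)) _
  refine ⟨fun D hD => ?_, fun ψ hψ =>
    ⟨(⟨_, hirr ψ hψ⟩ : IrrCharacter G), (hm _).2 ⟨ψ, hψ, rfl⟩, rfl, ?_⟩⟩
  · obtain ⟨E, hE, hle⟩ := IsDefectGroup.exists_le_of_induced hM hind hD
    suffices h : Nat.card E ≤ Nat.card (D.map T.subtype) by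
      rwa [Subgroup.eq_of_le_of_card_ge hle h]
    rw [Nat.card_congr ((Subgroup.equivMapOfInjective D T.subtype T.subtype_injective).toEquiv).symm,
      card_defectGroup hM hind.2.1 hE, card_defectGroup hM hB' hD, Cfsg.blockDefect,
      Cfsg.blockDefect, hinf, ← Subgroup.index_mul_card T,
      Nat.factorization_mul Subgroup.index_ne_zero_of_finite Nat.card_pos.ne', Finsupp.add_apply,
      ← hv, Nat.add_sub_add_left]
  · rw [Cfsg.blockHeight, Cfsg.blockHeight, hinf, hdeg ⟨_, hirr ψ hψ⟩ ψ rfl, Nat.add_sub_add_left]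

end CfsgLib.BlockDegrees.FongReynolds
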