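import Cfsg.Agent.Blocks.Induced
import Cfsg.Agent.Blocks.Height
import Cfsg.Agent.Characters.Induction

/-!
# Degrees of the block components of an induced character
-/

set_option autoImplicit false
set_option linter.style.haveILetI false
set_option linter.unusedSectionVars false

namespace CfsgLib.BlockDegrees

open Cfsg CfsgLib.Blocks
open scoped ComplexConjugate

universe u

variable {G : Type u} [Group G] [Fintype G] {M : Ideal AlgInt} [M.IsPrime] {p : ℕ}

theorem blockPart_apply (B : Set (IrrCharacter G)) (f : G → ℂ) (g : G) [DecidablePred (· ∈ B)] :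
    Cfsg.blockPart B f g = ∑ χ : IrrCharacter G,
      if χ ∈ B then Cfsg.classInner f (χ : G → ℂ) * (χ : G → ℂ) g else 0 := by
  simp only [Cfsg.blockPart, finsum_irr_mem B]
  exact Finset.sum_congr rfl fun χ _ => by simp only [Cfsg.classInner]; congr!

/-- The degree of a block component of an induced character. -/
theorem blockPart_indFun_one (H : Subgroup G) [Fintype H] (ξ : IrrCharacter H)
    (B : Set (IrrCharacter G)) :
    Cfsg.blockPart B (Cfsg.indFun H (ξ : H → ℂ)) 1 =
      (H.index : ℂ) * (ξ : H → ℂ) 1 * omega ξ (resCtr H (setIdemC B)) := by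
  classical
  rw [blockPart_apply, omega_apply]
  simp only [coeff_resCtr, coeff_setIdemC, blockCoeff_eq_sum]
  rw [mul_assoc, mul_div_cancel₀ _ (Characters.irr_one_ne_zero ξ.2)]
  simp only [Finset.mul_sum, Finset.sum_mul]
  rw [Finset.sum_comm]
  refine Finset.sum_congr rfl fun χ _ => ?_
  split_ifs
  · rw [Characters.classInner_indFun H (ξ : H → ℂ) (Characters.isClassFunction_of_isIrr χ.2),
      Cfsg.classInner, Finset.mul_sum, Finset.sum_mul]
    refine Finset.sum_congr rfl fun h _ => ?_
    have hH : (Nat.card H : ℂ) ≠ 0 := Nat.cast_ne_zero.2 Nat.card_pos.ne'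
    have hG : (Nat.card G : ℂ) ≠ 0 := Nat.cast_ne_zero.2 Nat.card_pos.ne'
    rw [← H.index_mul_card] at hG ⊢
    push_cast at hG ⊢
    have hi : (H.index : ℂ) ≠ 0 := left_ne_zero_of_mul hG
    field_simp
  · simp

theorem exists_nat_blockPart (H : Subgroup G) [Fintype H] (ξ : IrrCharacter H)
    (B : Set (IrrCharacter G)) :
    ∃ n : ℕ, Cfsg.blockPart B (Cfsg.indFun H (ξ : H → ℂ)) 1 = (n : ℂ) := by
  classical
  have h : ∀ χ : IrrCharacter G, ∃ m : ℕ,
      Cfsg.classInner (Cfsg.indFun H (ξ : H → ℂ)) (χ : G → ℂ) = (m : ℂ) := fun χ =>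
    Characters.classInner_character_irr
      (Characters.isCharacter_indFun H (Characters.isCharacter_of_isIrr ξ.2)) χ.2
  choose m hm using h
  refine ⟨∑ χ : IrrCharacter G, if χ ∈ B then m χ * Cfsg.charDegree (χ : G → ℂ) else 0, ?_⟩
  rw [blockPart_apply]
  push_cast
  refine Finset.sum_congr rfl fun χ _ => ?_
  split_ifs
  · rw [hm, charDegree_cast]
  · rfl

end CfsgLib.BlockDegrees
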