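import Cfsg.Agent.Blocks.Defect
import Cfsg.Agent.Blocks.Height
import Cfsg.Agent.BlockPairs.Orbit
import Cfsg.Agent.Characters.Linear

/-!
# Blocks of a quotient group

The idempotent of a block of `G` pushes forward to the idempotent of the union of the blocks of
`G ⧸ N` inflating into it.  Defect groups of those blocks lie in images of defect groups, with
equality for some block when `N` is a p-group.
-/

set_option autoImplicit false
set_option linter.style.haveILetI false
set_option linter.unusedSectionVars false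

namespace CfsgLib.BlockDegrees.Quotient

open Cfsg CfsgLib.Blocks
open CfsgLib.BlockPairs (cj mem_cj cj_cj cj_mono cj_inv_cj)
open scoped ComplexConjugate

universe u

variable {G : Type u} [Group G] [Fintype G] (N : Subgroup G) [hN : N.Normal]
  [Fintype (G ⧸ N)] {M : Ideal AlgInt} [M.IsPrime] {p : ℕ}

/-- Inflation. -/
noncomputable def infl (χ : IrrCharacter (G ⧸ N)) : IrrCharacter G :=
  ⟨(χ : G ⧸ N → ℂ) ∘ QuotientGroup.mk,
    Characters.isIrr_comp (QuotientGroup.mk' N) (QuotientGroup.mk'_surjective N) χ.2⟩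

/-- The characters of the quotient inflating into `B`. -/
def below (B : Set (IrrCharacter G)) : Set (IrrCharacter (G ⧸ N)) := {χ | infl N χ ∈ B}

open Classical in
/-- The coefficient of a block idempotent of the quotient is a sum over a coset. -/
theorem blockCoeff_below (B : Set (IrrCharacter G)) (q : G ⧸ N) :
    Cfsg.blockCoeff (below N B) q =
      ∑ k : G, if (k : G ⧸ N) = q then Cfsg.blockCoeff B k else 0 := by
  set f : G ⧸ N → ℂ := fun q => ∑ k : G, if (k : G ⧸ N) = q then Cfsg.blockCoeff B k else 0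
  have hf : ∀ q h : G ⧸ N, f (h * q * h⁻¹) = f q := by
    intro q h
    obtain ⟨h, rfl⟩ := QuotientGroup.mk_surjective h
    refine (Fintype.sum_equiv (MulAut.conj h).toEquiv _ _ fun k => ?_).symm
    simp only [MulEquiv.toEquiv_eq_coe, EquivLike.coe_coe, MulAut.conj_apply, blockCoeff_conj,
      QuotientGroup.mk_mul, QuotientGroup.mk_inv]
    exact if_congr (by simp) rfl rfl
  have e : setIdemC (below N B) =
      (⟨ofFun f, mem_ctr_iff.2 fun a b => by simp [hf]⟩ : Ctr ℂ (G ⧸ N)) := by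
    refine ctr_ext_omega fun χ => ?_
    refine mul_right_cancel₀ (Characters.irr_one_ne_zero χ.2) ?_
    rw [omega_setIdemC, show (χ ∈ below N B) = (infl N χ ∈ B) from rfl, ← omega_setIdemC,
      omega_apply, omega_apply]
    have h1 : (infl N χ : G → ℂ) 1 = (χ : G ⧸ N → ℂ) 1 := rfl
    rw [h1, div_mul_cancel₀ _ (Characters.irr_one_ne_zero χ.2),
      div_mul_cancel₀ _ (Characters.irr_one_ne_zero χ.2)]
    simp only [coeff_setIdemC, coeff_ofFun, f, Finset.sum_mul]
    rw [Finset.sum_comm]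
    refine Finset.sum_congr rfl fun k _ => ?_
    rw [Finset.sum_eq_single (k : G ⧸ N)]
    · rw [if_pos rfl]; rfl
    · intro b _ hb; rw [if_neg hb.symm, zero_mul]
    · simp
  have := congrArg (fun z : Ctr ℂ (G ⧸ N) => (z : MonoidAlgebra ℂ (G ⧸ N)).coeff q) e
  simpa using this

theorem isBlockUnion_below {B : Set (IrrCharacter G)} (hB : Cfsg.IsPBlock M B) :
    IsBlockUnion M (below N B) := by
  classical
  refine isBlockUnion_of_memLocalRing fun q => ?_
  rw [blockCoeff_below]
  refine Subring.sum_mem (localRing M) fun k _ => ?_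
  split_ifs
  · exact memLocalRing_blockCoeff (isBlockUnion_of_isPBlock hB) _
  · exact Subring.zero_mem (localRing M)

open Classical in
theorem coeff_idemBar_below {B : Set (IrrCharacter G)} (hB : Cfsg.IsPBlock M B) (q : G ⧸ N) :
    (idemBar M (below N B) (isBlockUnion_below N hB) : MonoidAlgebra (Res M) (G ⧸ N)).coeff q =
      ∑ k : G, if (k : G ⧸ N) = q then
        (idemBar M B (isBlockUnion_of_isPBlock hB) : MonoidAlgebra (Res M) G).coeff k else 0 := by
  have e : (⟨Cfsg.blockCoeff (below N B) q,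
      memLocalRing_blockCoeff (isBlockUnion_below N hB) q⟩ : localRing M) =
      ∑ k : G, if (k : G ⧸ N) = q then
        (⟨Cfsg.blockCoeff B k, memLocalRing_blockCoeff (isBlockUnion_of_isPBlock hB) k⟩ :
          localRing M) else 0 := by
    refine Subtype.ext ?_
    rw [AddSubmonoidClass.coe_finsetSum]
    refine (blockCoeff_below N B q).trans (Finset.sum_congr rfl fun k _ => ?_)
    split_ifs <;> rfl
  rw [coeff_idemBar, e, map_sum]
  refine Finset.sum_congr rfl fun k _ => ?_
  split_ifs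
  · rw [coeff_idemBar]
  · exact map_zero _

variable [Fact p.Prime]

/-- The idempotent of the blocks below `B` is dominated by the image of a defect group. -/
theorem domBy_below (hM : Cfsg.IsPModular p M) {B : Set (IrrCharacter G)}
    (hB : Cfsg.IsPBlock M B) {P : Subgroup G} (hP : Cfsg.IsDefectGroup p M B P) :
    DomBy p (P.map (QuotientGroup.mk' N))
      (idemBar M (below N B) (isBlockUnion_below N hB)) := by
  classical
  haveI := charP_res hM
  intro Qb hQb q hq hne
  set K := Qb.comap (QuotientGroup.mk' N) with hK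
  obtain ⟨Q⟩ : Nonempty (Sylow p K) := inferInstance
  set Q' : Subgroup G := (Q : Subgroup K).map K.subtype with hQ'
  have hQ'p : IsPGroup p Q' := Q.isPGroup'.map _
  let f : K →* Qb := ((QuotientGroup.mk' N).comp K.subtype).codRestrict Qb fun k => k.2
  have hf : Function.Surjective f := by
    rintro ⟨y, hy⟩
    obtain ⟨x, rfl⟩ := QuotientGroup.mk'_surjective N y
    exact ⟨⟨x, hy⟩, rfl⟩
  have himg : ((Q : Subgroup K).map f) = ⊤ := by
    obtain ⟨n, hn⟩ := hQb.index ((Q : Subgroup K).map f)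
    rw [← Subgroup.index_eq_one, hn]
    have h1 := Subgroup.index_map_dvd (Q : Subgroup K) hf
    rw [hn] at h1
    rcases Nat.eq_zero_or_pos n with rfl | h0
    · exact pow_zero _
    · exact absurd ((dvd_pow_self p h0.ne').trans h1) Q.not_dvd_index
  have hmap : Q'.map (QuotientGroup.mk' N) = Qb := by
    refine le_antisymm ?_ fun y hy => ?_
    · rintro _ ⟨_, ⟨k, -, rfl⟩, rfl⟩
      exact k.2
    · obtain ⟨k, hk, hky⟩ := (himg.ge (Subgroup.mem_top (⟨y, hy⟩ : Qb)) :
        (⟨y, hy⟩ : Qb) ∈ (Q : Subgroup K).map f)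
      exact ⟨k, ⟨k, hk, rfl⟩, congrArg Subtype.val hky⟩
  set e := idemBar M B (isBlockUnion_of_isPBlock hB) with he
  rw [coeff_idemBar_below N hB] at hne
  obtain ⟨k, hkq, hkfix, hkne⟩ : ∃ k : G, (k : G ⧸ N) = q ∧
      k ∈ Subgroup.centralizer (Q' : Set G) ∧ (e : MonoidAlgebra (Res M) G).coeff k ≠ 0 := by
    by_contra hcon
    push Not at hcon
    letI : MulAction Q' G :=
      { smul := fun x g => (x : G) * g * (x : G)⁻¹
        one_smul := fun g => by show ((1 : Q') : G) * g * ((1 : Q') : G)⁻¹ = g; simp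
        mul_smul := fun x y g => by
          show ((x * y : Q') : G) * g * ((x * y : Q') : G)⁻¹ =
            (x : G) * ((y : G) * g * (y : G)⁻¹) * (x : G)⁻¹
          simp [mul_assoc] }
    have hchar : ∀ x : Res M, p • x = 0 := fun x => by
      rw [nsmul_eq_mul, CharP.cast_eq_zero, zero_mul]
    rw [BlockPairs.sum_eq_sum_fixed hQ'p hchar] at hne
    · refine hne (Finset.sum_eq_zero fun k hk => ?_)
      split_ifs with h
      · refine hcon k h (Subgroup.mem_centralizer_iff.2 fun x hx => ?_)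
        have hfix : x * k * x⁻¹ = k := (Finset.mem_filter.1 hk).2 ⟨x, hx⟩
        exact mul_inv_eq_iff_eq_mul.1 hfix
      · rfl
    · intro x k
      show (if (((x : G) * k * (x : G)⁻¹ : G) : G ⧸ N) = q then _ else 0) = _
      refine if_congr ?_ (coeff_conj_of_mem_ctr e.2 _ _) rfl
      have hx : (x : G ⧸ N) * q * (x : G ⧸ N)⁻¹ = q := by
        rw [show (x : G ⧸ N) * q = q * (x : G ⧸ N) from
          Subgroup.mem_centralizer_iff.1 hq _ (hmap.le ⟨x, x.2, rfl⟩), mul_inv_cancel_right]
      rw [QuotientGroup.mk_mul, QuotientGroup.mk_mul, QuotientGroup.mk_inv]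
      refine ⟨fun h => ?_, fun h => by rw [h, hx]⟩
      rw [← hx] at h
      exact mul_left_cancel (mul_right_cancel h)
  obtain ⟨x, hx⟩ := IsDefectGroup.domBy hM hB hP Q' hQ'p k hkfix hkne
  refine ⟨(x : G ⧸ N), ?_⟩
  rintro y hy
  rw [mem_cj] at hy
  rw [← hmap] at hy
  obtain ⟨z, hz, hzy⟩ := hy
  refine ⟨x * z * x⁻¹, hx (mem_cj.2 (by simpa [mul_assoc] using hz)), ?_⟩
  rw [map_mul, map_mul, map_inv, hzy]
  simp [mul_assoc]

theorem idemBar_mul_below {B : Set (IrrCharacter G)} (hB : Cfsg.IsPBlock M B)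
    {Bb : Set (IrrCharacter (G ⧸ N))} (hBb : Cfsg.IsPBlock M Bb) (hsub : Bb ⊆ below N B) :
    idemBar M Bb (isBlockUnion_of_isPBlock hBb) * idemBar M (below N B) (isBlockUnion_below N hB) =
      idemBar M Bb (isBlockUnion_of_isPBlock hBb) := by
  classical
  rw [idemBar, idemBar, ← map_mul]
  congr 1
  refine ctr_ext_omegaO fun ψ => ?_
  rw [map_mul, omegaO_setIdemO, omegaO_setIdemO]
  split_ifs with h h'
  · rw [one_mul]
  · exact absurd (hsub h) h'
  · rw [zero_mul]
  · rw [zero_mul]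

/-- Every defect group of a block of `G ⧸ N` inflating into `B` is in the image of one of `B`. -/
theorem exists_defectGroup_above (hM : Cfsg.IsPModular p M) {B : Set (IrrCharacter G)}
    (hB : Cfsg.IsPBlock M B) {Bb : Set (IrrCharacter (G ⧸ N))} (hBb : Cfsg.IsPBlock M Bb)
    (hsub : Bb ⊆ below N B) {Db : Subgroup (G ⧸ N)} (hDb : Cfsg.IsDefectGroup p M Bb Db) :
    ∃ P : Subgroup G, Cfsg.IsDefectGroup p M B P ∧ Db ≤ P.map (QuotientGroup.mk' N) := by
  haveI := charP_res hM
  obtain ⟨P, hP⟩ := exists_isDefectGroup (p := p) hB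
  obtain ⟨g, hg, hne⟩ := IsDefectGroup.exists_coeff hBb hDb
  rw [← idemBar_mul_below N hB hBb hsub] at hne
  obtain ⟨x, hx⟩ := (domBy_below N hM hB hP).mul_left _ Db (IsDefectGroup.isPGroup hDb) g hg hne
  obtain ⟨x, rfl⟩ := QuotientGroup.mk'_surjective N x
  refine ⟨cj x⁻¹ P, IsDefectGroup.conj hB hP _, fun y hy => ?_⟩
  obtain ⟨z, hz, hzy⟩ := hx (mem_cj.2 (show (QuotientGroup.mk' N x)⁻¹ *
    (QuotientGroup.mk' N x * y * (QuotientGroup.mk' N x)⁻¹) * QuotientGroup.mk' N x ∈ Db by
      simpa [mul_assoc] using hy))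
  refine ⟨x⁻¹ * z * x, mem_cj.2 (by simpa [mul_assoc] using hz), ?_⟩
  rw [map_mul, map_mul, map_inv, hzy]
  group

/-- For a normal p-subgroup, some block below has the images as its defect groups. -/
theorem exists_block_below (hM : Cfsg.IsPModular p M) (hNp : IsPGroup p N)
    {B : Set (IrrCharacter G)} (hB : Cfsg.IsPBlock M B) :
    ∃ Bb : Set (IrrCharacter (G ⧸ N)), Cfsg.IsPBlock M Bb ∧ Bb ⊆ below N B ∧
      ∀ Db : Subgroup (G ⧸ N), Cfsg.IsDefectGroup p M Bb Db ↔
        ∃ P : Subgroup G, Cfsg.IsDefectGroup p M B P ∧ Db = P.map (QuotientGroup.mk' N) := by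
  classical
  haveI := charP_res hM
  obtain ⟨g, hg⟩ := exists_isDefectClass hB
  obtain ⟨P, hPS, -⟩ := exists_isSylowIn_ge (p := p) (K := Subgroup.centralizer ({g} : Set G))
    IsPGroup.of_bot bot_le
  have hP : Cfsg.IsDefectGroup p M B P := isDefectGroup_iff.2 ⟨g, hg, hPS⟩
  have hreg := regular_of_isDefectClass hM hB hg
  have hNP : N ≤ P := IsDefectGroup.le_of_normal hM hB hP N hNp
  have hNC : ∀ n ∈ N, n * g = g * n := fun n hn =>
    Subgroup.mem_centralizer_singleton_iff.1 (hPS.1 (hNP hn))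
  have key : ∀ k : G, ¬ p ∣ orderOf k → (k : G ⧸ N) = (g : G ⧸ N) → k = g := by
    intro k hk hkg
    have hn : g⁻¹ * k ∈ N := QuotientGroup.eq.1 hkg.symm
    set n := g⁻¹ * k with hn'
    have hk' : k = g * n := by rw [hn', mul_inv_cancel_left]
    obtain ⟨j, hj⟩ := IsPGroup.iff_orderOf.1 hNp ⟨n, hn⟩
    rw [Subgroup.orderOf_mk] at hj
    have hco : Nat.Coprime (orderOf g) (orderOf n) := by
      rw [hj]
      exact Nat.Coprime.pow_right _ ((Nat.Prime.coprime_iff_not_dvd Fact.out).2 hreg).symm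
    have ho := (show Commute g n from (hNC n hn).symm).orderOf_mul_eq_mul_orderOf_of_coprime hco
    rw [← hk', hj] at ho
    rcases Nat.eq_zero_or_pos j with rfl | hj0
    · rw [pow_zero, orderOf_eq_one_iff] at hj
      rw [hk', hj, mul_one]
    · exact absurd (ho ▸ (dvd_pow_self p hj0.ne').mul_left _) hk
  have hC : (Subgroup.centralizer ({(g : G ⧸ N)} : Set (G ⧸ N))).comap (QuotientGroup.mk' N) =
      Subgroup.centralizer ({g} : Set G) := by
    ext x
    simp only [Subgroup.mem_comap, Subgroup.mem_centralizer_singleton_iff]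
    refine ⟨fun h => ?_, fun h => by
      show (x : G ⧸ N) * g = g * x
      rw [← QuotientGroup.mk_mul, h, QuotientGroup.mk_mul]⟩
    have h' : (x : G ⧸ N) * g = g * x := h
    have h2 := key (x * g * x⁻¹)
      (by rwa [show x * g * x⁻¹ = MulAut.conj x g from rfl, MulEquiv.orderOf_eq])
      (by rw [QuotientGroup.mk_mul, QuotientGroup.mk_mul, QuotientGroup.mk_inv, h',
        mul_inv_cancel_right])
    exact mul_inv_eq_iff_eq_mul.1 h2
  have hsum : (idemBar M (below N B) (isBlockUnion_below N hB) :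
      MonoidAlgebra (Res M) (G ⧸ N)).coeff (g : G ⧸ N) ≠ 0 := by
    rw [coeff_idemBar_below N hB, Finset.sum_eq_single g]
    · rw [if_pos rfl]
      exact (not_memLocalIdeal_blockCoeff_iff _ g).1 hg.2.1
    · intro k _ hk
      split_ifs with h
      · rw [coeff_idemBar, red_eq_zero_iff]
        show Cfsg.MemLocalIdeal M (Cfsg.blockCoeff B k)
        rw [Blocks.blockCoeff_eq_zero_of_singular hM (isBlockUnion_of_isPBlock hB)
          (not_not.1 fun h' => hk (key k h' h))]
        exact memLocalIdeal_zero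
      · rfl
    · simp
  -- some block below has a unit coefficient at `g`
  obtain ⟨χ₁, hχ₁, hco⟩ : ∃ χ ∈ below N B,
      ¬ Cfsg.MemLocalIdeal M (Cfsg.blockCoeff (Cfsg.blockOf M (χ : G ⧸ N → ℂ)) (g : G ⧸ N)) := by
    by_contra hcon
    push Not at hcon
    refine hsum ?_
    rw [coeff_idemBar, red_eq_zero_iff]
    show Cfsg.MemLocalIdeal M (Cfsg.blockCoeff (below N B) (g : G ⧸ N))
    set S := Finset.univ.filter (fun χ : IrrCharacter (G ⧸ N) => χ ∈ below N B)
    have hsplit : Cfsg.blockCoeff (below N B) (g : G ⧸ N) =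
        ∑ Bb ∈ S.image (fun χ : IrrCharacter (G ⧸ N) => Cfsg.blockOf M (χ : G ⧸ N → ℂ)),
          Cfsg.blockCoeff Bb (g : G ⧸ N) := by
      simp only [blockCoeff_eq_sum, ← Finset.mul_sum]
      congr 1
      rw [Finset.sum_comm]
      refine Finset.sum_congr rfl fun χ _ => ?_
      by_cases hχ : χ ∈ below N B
      · rw [if_pos hχ, Finset.sum_eq_single (Cfsg.blockOf M (χ : G ⧸ N → ℂ))]
        · rw [if_pos (mem_blockOf_self χ)]
        · intro Bb hBb hne
          obtain ⟨φ, -, rfl⟩ := Finset.mem_image.1 hBb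
          exact if_neg fun h => hne (blockOf_eq_of_mem h).symm
        · exact fun h => absurd (Finset.mem_image_of_mem _
            (Finset.mem_filter.2 ⟨Finset.mem_univ _, hχ⟩)) h
      · rw [if_neg hχ, Finset.sum_eq_zero]
        intro Bb hBb
        obtain ⟨φ, hφ, rfl⟩ := Finset.mem_image.1 hBb
        exact if_neg fun h =>
          hχ (isBlockUnion_below N hB φ (Finset.mem_filter.1 hφ).2 h)
    rw [hsplit]
    refine Finset.sum_induction _ _ (fun a b => memLocalIdeal_add) memLocalIdeal_zero fun Bb hBb => ?_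
    obtain ⟨φ, hφ, rfl⟩ := Finset.mem_image.1 hBb
    exact hcon φ (Finset.mem_filter.1 hφ).2
  set Bb := Cfsg.blockOf M (χ₁ : G ⧸ N → ℂ) with hBbdef
  have hBb : Cfsg.IsPBlock M Bb := isPBlock_blockOf χ₁
  have hcls : Cfsg.IsDefectClass M Bb (g : G ⧸ N) := by
    refine (isDefectClass_iff hBb (mem_blockOf_self χ₁) _).2
      ⟨(not_memLocalIdeal_blockCoeff_iff _ _).1 hco, ?_⟩
    rw [← not_memLocalIdeal_centralChar_iff]
    have e : Cfsg.centralChar (χ₁ : G ⧸ N → ℂ) (g : G ⧸ N) =
        Cfsg.centralChar (infl N χ₁ : G → ℂ) g := by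
      rw [Cfsg.centralChar, Cfsg.centralChar, ← hC,
        Subgroup.index_comap_of_surjective _ (QuotientGroup.mk'_surjective N)]
      rfl
    rw [e]
    exact hg.2.2 _ hχ₁
  have hSb : IsSylowIn p (Subgroup.centralizer ({(g : G ⧸ N)} : Set (G ⧸ N)))
      (P.map (QuotientGroup.mk' N)) := by
    rw [← Subgroup.map_comap_eq_self_of_surjective (QuotientGroup.mk'_surjective N)
      (Subgroup.centralizer ({(g : G ⧸ N)} : Set (G ⧸ N))), hC]
    refine ⟨Subgroup.map_mono hPS.1, hPS.2.1.map _, ?_⟩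
    rw [Subgroup.relIndex_map_map, QuotientGroup.ker_mk', sup_eq_left.2 hNP,
      sup_eq_left.2 (hNP.trans hPS.1)]
    exact hPS.2.2
  have hDb : Cfsg.IsDefectGroup p M Bb (P.map (QuotientGroup.mk' N)) :=
    isDefectGroup_iff.2 ⟨_, hcls, hSb⟩
  have hcj : ∀ (x : G) (R : Subgroup G), (cj x R).map (QuotientGroup.mk' N) =
      cj (QuotientGroup.mk' N x) (R.map (QuotientGroup.mk' N)) := by
    intro x R
    ext y
    rw [mem_cj]
    constructor
    · rintro ⟨z, hz, rfl⟩
      exact ⟨x⁻¹ * z * x, mem_cj.1 hz, by simp⟩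
    · rintro ⟨z, hz, hzy⟩
      exact ⟨x * z * x⁻¹, mem_cj.2 (by simpa [mul_assoc] using hz),
        by rw [map_mul, map_mul, map_inv, hzy]; group⟩
  refine ⟨Bb, hBb, isBlockUnion_below N hB χ₁ hχ₁, fun Db => ⟨fun h => ?_, ?_⟩⟩
  · obtain ⟨y, hy⟩ := IsDefectGroup.exists_conj hM hBb hDb h
    obtain ⟨y, rfl⟩ := QuotientGroup.mk'_surjective N y
    exact ⟨cj y P, IsDefectGroup.conj hB hP y, by rw [hcj, hy]⟩
  · rintro ⟨P', hP', rfl⟩
    obtain ⟨x, rfl⟩ := IsDefectGroup.exists_conj hM hB hP hP'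
    rw [hcj]
    exact IsDefectGroup.conj hBb hDb _

end CfsgLib.BlockDegrees.Quotient
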