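import Cfsg.Agent.Blocks.RegularSupport
import Cfsg.Agent.Blocks.Height
import Cfsg.Agent.Blocks.Induced

/-!
# Characters cut down to p-regular elements

Row orthogonality between blocks on the p-regular elements, the congruence of character values
at `x c` and `c` for a p-element `x` commuting with `c`, and the unit property of characters of
height zero.
-/

set_option autoImplicit false
set_option linter.style.haveILetI false
set_option linter.unusedSectionVars false

namespace CfsgLib.BlockDegrees

open Cfsg CfsgLib.Blocks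
open scoped ComplexConjugate

universe u

variable {G : Type u} [Group G] [Fintype G] {M : Ideal AlgInt} [M.IsPrime] {p : ℕ}

/-- The pairing of two characters over the p-regular elements. -/
noncomputable def regPair (p : ℕ) (φ ξ : G → ℂ) : ℂ :=
  ∑ g : G, (if p ∣ orderOf g then 0 else φ g) * conj (ξ g)

theorem regPair_symm (φ ξ : IrrCharacter G) :
    regPair p (φ : G → ℂ) (ξ : G → ℂ) = regPair p (ξ : G → ℂ) (φ : G → ℂ) := by
  refine Fintype.sum_equiv (Equiv.inv G) _ _ fun g => ?_
  simp only [Equiv.inv_apply, orderOf_inv]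
  split_ifs
  · simp
  · rw [Characters.character_inv (Characters.isCharacter_of_isIrr φ.2),
      Characters.character_inv (Characters.isCharacter_of_isIrr ξ.2), Complex.conj_conj, mul_comm]

open Classical in
/-- Characters of different unions of blocks are orthogonal on the p-regular elements. -/
theorem regPair_eq_zero (hM : Cfsg.IsPModular p M) {A : Set (IrrCharacter G)}
    (hA : IsBlockUnion M A) {φ ξ : IrrCharacter G} (hφ : φ ∈ A) (hξ : ξ ∉ A) :
    regPair p (φ : G → ℂ) (ξ : G → ℂ) = 0 := by
  set K : G → G → ℂ := fun a b =>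
    ∑ η : IrrCharacter G, if η ∈ A then (η : G → ℂ) a * conj ((η : G → ℂ) b) else 0 with hK
  have hK0 : ∀ a b, ¬ p ∣ orderOf a → p ∣ orderOf b → K a b = 0 := fun a b ha hb =>
    sum_union_mul_conj_eq_zero hM hA ha hb
  have hKc : ∀ a b, conj (K a b) = K b a := fun a b => by
    simp only [hK, map_sum]
    exact Finset.sum_congr rfl fun η _ => by split_ifs <;> simp [mul_comm]
  have hproj : ∀ (ζ : IrrCharacter G) (a : G), ∑ b : G, K a b * (ζ : G → ℂ) b =
      (Nat.card G : ℂ) * if ζ ∈ A then (ζ : G → ℂ) a else 0 := by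
    intro ζ a
    simp only [hK, Finset.sum_mul]
    rw [Finset.sum_comm, Finset.sum_eq_single ζ]
    · split_ifs with h
      · have h1 := Characters.classInner_irr ζ ζ
        rw [if_pos rfl, Cfsg.classInner, inv_mul_eq_iff_eq_mul₀ Characters.natCard_ne_zero,
          mul_one] at h1
        rw [← h1, Finset.sum_mul]
        exact Finset.sum_congr rfl fun b _ => by ring
      · simp
    · intro η _ hne
      split_ifs
      · have h1 := Characters.classInner_irr ζ η
        rw [if_neg hne.symm, Cfsg.classInner, inv_mul_eq_iff_eq_mul₀ Characters.natCard_ne_zero,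
          mul_zero] at h1
        rw [Finset.sum_congr rfl (g := fun b => (η : G → ℂ) a * ((ζ : G → ℂ) b *
          conj ((η : G → ℂ) b))) fun b _ => by ring, ← Finset.mul_sum, h1, mul_zero]
      · simp
    · simp
  have hG : (Nat.card G : ℂ) ≠ 0 := Characters.natCard_ne_zero
  refine mul_left_cancel₀ hG ?_
  rw [mul_zero, regPair, Finset.mul_sum]
  have e : ∀ g : G, (Nat.card G : ℂ) * ((if p ∣ orderOf g then 0 else (φ : G → ℂ) g) *
      conj ((ξ : G → ℂ) g)) = ∑ b : G, (if p ∣ orderOf b then 0 else (φ : G → ℂ) b) *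
        conj (K b g * (ξ : G → ℂ) g) := by
    intro g
    by_cases hg : p ∣ orderOf g
    · rw [if_pos hg, zero_mul, mul_zero, eq_comm]
      refine Finset.sum_eq_zero fun b _ => ?_
      by_cases hb : p ∣ orderOf b
      · simp [hb]
      · rw [hK0 b g hb hg]; simp
    · rw [if_neg hg, ← mul_assoc]
      have h2 := hproj φ g
      rw [if_pos hφ] at h2
      rw [← h2, Finset.sum_mul]
      refine Finset.sum_congr rfl fun b _ => ?_
      by_cases hb : p ∣ orderOf b
      · rw [hK0 g b hg hb]; simp [hb]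
      · rw [if_neg hb, map_mul, hKc]; ring
  rw [Finset.sum_congr rfl fun g _ => e g, Finset.sum_comm]
  refine Finset.sum_eq_zero fun b _ => ?_
  rw [← Finset.mul_sum, ← map_sum, hproj, if_neg hξ, mul_zero, map_zero, mul_zero]

theorem classInner_regular (c : ℂ) (φ ξ : G → ℂ) :
    Cfsg.classInner (fun g => if p ∣ orderOf g then 0 else c * φ g) ξ =
      (Nat.card G : ℂ)⁻¹ * (c * regPair p φ ξ) := by
  rw [Cfsg.classInner, regPair]
  congr 1
  rw [Finset.mul_sum]
  exact Finset.sum_congr rfl fun g _ => by split_ifs <;> ring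

/-- The central element with coefficients `conj (φ g)` on the p-regular elements. -/
noncomputable def regElt (M : Ideal AlgInt) [M.IsPrime] (p : ℕ) (φ : IrrCharacter G) :
    Ctr (localRing M) G :=
  ⟨ofFun fun g => if p ∣ orderOf g then 0 else ⟨(φ : G → ℂ) g⁻¹, memLocalRing_char φ _⟩,
    mem_ctr_iff.2 fun g h => by
      simp only [coeff_ofFun]
      rw [show h * g * h⁻¹ = MulAut.conj h g from rfl, MulEquiv.orderOf_eq]
      refine if_congr Iff.rfl rfl (Subtype.ext ?_)
      show (φ : G → ℂ) _ = _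
      rw [← map_inv, show MulAut.conj h g⁻¹ = h * g⁻¹ * h⁻¹ from rfl,
        Characters.isClassFunction_of_isIrr φ.2]⟩

theorem omega_regElt (φ ξ : IrrCharacter G) :
    omega ξ (toC M (regElt M p φ)) * (ξ : G → ℂ) 1 = regPair p (φ : G → ℂ) (ξ : G → ℂ) := by
  rw [omega_apply, div_mul_cancel₀ _ (Characters.irr_one_ne_zero ξ.2), regPair]
  refine Fintype.sum_equiv (Equiv.inv G) _ _ fun g => ?_
  simp only [regElt, toC, coeff_mapCtr, coeff_ofFun, Equiv.inv_apply, orderOf_inv]
  split_ifs
  · simp
  · rw [Characters.character_inv (Characters.isCharacter_of_isIrr ξ.2), Complex.conj_conj]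
    rfl

theorem omegaBar_regElt_eq_zero (hM : Cfsg.IsPModular p M) {A : Set (IrrCharacter G)}
    (hA : IsBlockUnion M A) {φ ξ : IrrCharacter G} (hφ : φ ∉ A) (hξ : ξ ∈ A) :
    omegaBar M ξ (redCtr M (regElt M p φ)) = 0 := by
  rw [omegaBar_redCtr]
  have h := omega_regElt (M := M) (p := p) φ ξ
  rw [regPair_symm, regPair_eq_zero hM hA hξ hφ, mul_eq_zero,
    or_iff_left (Characters.irr_one_ne_zero ξ.2), ← coe_omegaO] at h
  rw [show omegaO M ξ (regElt M p φ) = 0 from Subtype.ext h, map_zero]

/-- The pairing on a subgroup, through the central character. -/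
theorem omega_resCtr_regElt (H : Subgroup G) [Fintype H] (φ : IrrCharacter G)
    (ξ : IrrCharacter H) :
    omega ξ (resCtr H (toC M (regElt M p φ))) * (ξ : H → ℂ) 1 =
      regPair p (fun h : H => (φ : G → ℂ) h) (ξ : H → ℂ) := by
  rw [omega_apply, div_mul_cancel₀ _ (Characters.irr_one_ne_zero ξ.2), regPair]
  refine Fintype.sum_equiv (Equiv.inv H) _ _ fun h => ?_
  simp only [regElt, toC, coeff_resCtr, coeff_mapCtr, coeff_ofFun, Equiv.inv_apply, orderOf_inv,
    Subgroup.orderOf_coe, Subgroup.coe_inv]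
  split_ifs
  · simp
  · rw [Characters.character_inv (Characters.isCharacter_of_isIrr ξ.2), Complex.conj_conj]
    rfl

variable [Fact p.Prime]

/-- A character of height zero pairs with itself to a unit. -/
theorem omegaBar_regElt_ne_zero (hM : Cfsg.IsPModular p M) {B : Set (IrrCharacter G)}
    (hB : Cfsg.IsPBlock M B) {χ : IrrCharacter G} (hχ : χ ∈ B)
    (h0 : Cfsg.blockHeight p B (χ : G → ℂ) = 0) :
    omegaBar M χ (redCtr M (regElt M p χ)) ≠ 0 := by
  classical
  have hA := isBlockUnion_of_isPBlock hB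
  obtain ⟨b, hb, hb'⟩ := exists_union_comb hM hA
  -- the block idempotent is a combination of the elements `regElt φ`
  have hf : setIdemO M B (memLocalRing_blockCoeff hA) = ∑ φ : IrrCharacter G,
      scalar (if φ ∈ B then (⟨b φ, hb φ⟩ : localRing M) else 0) * regElt M p φ := by
    refine ctr_ext fun g => Subtype.ext ?_
    simp only [AddSubmonoidClass.coe_finsetSum, MonoidAlgebra.coeff_sum, Finset.sum_apply',
      Subring.coe_mul, coe_scalar, MonoidAlgebra.coeff_single_mul_apply, inv_one, one_mul,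
      setIdemO, regElt, coeff_ofFun]
    by_cases hg : p ∣ orderOf g
    · simp [hg, blockCoeff_eq_zero_of_singular hM hA hg]
    · have h2 := hb' g⁻¹ (by rwa [orderOf_inv])
      rw [inv_inv] at h2
      rw [← h2]
      refine Finset.sum_congr rfl fun φ _ => ?_
      split_ifs <;> simp
  obtain ⟨φ, hφB, hφ⟩ : ∃ φ ∈ B, omegaBar M χ (redCtr M (regElt M p φ)) ≠ 0 := by
    by_contra hne
    push Not at hne
    have e := omegaBar_idemBar B hA χ
    rw [if_pos hχ, idemBar, hf, map_sum, map_sum, Finset.sum_eq_zero] at e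
    · exact zero_ne_one e
    intro φ _
    rw [map_mul, map_mul]
    by_cases hφ : φ ∈ B
    · rw [hne φ hφ, mul_zero]
    · rw [if_neg hφ, map_zero, map_zero, map_zero, zero_mul]
  -- symmetry transfers this to `χ`
  intro hcon
  have hindep : omegaBar M φ (redCtr M (regElt M p χ)) = 0 := by
    have hsb := hφB
    rw [eq_blockOf_of_mem hB hχ] at hsb
    rw [show omegaBar M φ = omegaBar M χ from ((sameBlock_iff χ φ).1 hsb).symm, hcon]
  rw [omegaBar_redCtr, red_eq_zero_iff] at hindep
  refine hφ ?_
  rw [omegaBar_redCtr, red_eq_zero_iff, coe_omegaO]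
  have hle : (Cfsg.charDegree (χ : G → ℂ)).factorization p ≤
      (Cfsg.charDegree (φ : G → ℂ)).factorization p := by
    have h1 := Nat.sInf_le (Set.mem_image_of_mem
      (fun ψ : IrrCharacter G => (Cfsg.charDegree (ψ : G → ℂ)).factorization p) hφB)
    rw [Cfsg.blockHeight] at h0
    omega
  have hq := memLocalRing_div_of_eq hM (n := Cfsg.charDegree (φ : G → ℂ))
    (charDegree_ne_zero χ) hle
  have h3 := memLocalIdeal_mul_left hq hindep
  have h4 : omega φ (toC M (regElt M p χ)) * (φ : G → ℂ) 1 =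
      omega χ (toC M (regElt M p φ)) * (χ : G → ℂ) 1 := by
    rw [omega_regElt, omega_regElt, regPair_symm]
  convert h3 using 1
  rw [coe_omegaO, charDegree_cast, charDegree_cast, div_mul_eq_mul_div,
    eq_div_iff (Characters.irr_one_ne_zero χ.2), ← h4, mul_comm]

/-- The scaled pairing on a subgroup lies in the local ideal exactly when the reduced central
character vanishes. -/
theorem memLocalIdeal_classInner_iff (hM : Cfsg.IsPModular p M) (H : Subgroup G) [Fintype H]
    (φ : IrrCharacter G) (ξ : IrrCharacter H) :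
    Cfsg.MemLocalIdeal M (Cfsg.classInner (fun h : H => if p ∣ orderOf h then (0 : ℂ) else
        ((p ^ (Nat.card H).factorization p : ℕ) : ℂ) * (φ : G → ℂ) h) (ξ : H → ℂ) /
          (ξ : H → ℂ) 1) ↔
      omegaBar M ξ (resCtr H (redCtr M (regElt M p φ))) = 0 := by
  rw [redCtr, ← mapCtr_resCtr, ← redCtr, omegaBar_redCtr, red_eq_zero_iff, coe_omegaO, toC,
    mapCtr_resCtr, ← toC, classInner_regular, ← omega_resCtr_regElt (M := M) H φ ξ,
    ← mul_assoc, ← mul_assoc, mul_div_cancel_right₀ _ (Characters.irr_one_ne_zero ξ.2)]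
  set c := p ^ (Nat.card H).factorization p with hc
  have hdvd : c ∣ Nat.card H := Nat.ordProj_dvd _ _
  have hm : ¬ p ∣ Nat.card H / c := Nat.not_dvd_ordCompl hM.1 Nat.card_pos.ne'
  have hcC : (c : ℂ) ≠ 0 := Nat.cast_ne_zero.2 (pow_ne_zero _ hM.1.ne_zero)
  have he : (Nat.card H : ℂ)⁻¹ * (c : ℂ) = ((Nat.card H / c : ℕ) : ℂ)⁻¹ := by
    rw [Nat.cast_div hdvd hcC, inv_div, div_eq_mul_inv, mul_comm]
  rw [he]
  refine ⟨fun h => ?_, fun h => memLocalIdeal_mul_left (memLocalRing_natCast_inv hM hm) h⟩
  have := memLocalIdeal_mul_left (memLocalRing_natCast (M := M) (Nat.card H / c)) h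
  rwa [← mul_assoc, mul_inv_cancel₀ (Nat.cast_ne_zero.2 fun h0 => hm (by rw [h0]; exact dvd_zero p)),
    one_mul] at this

/-- A character takes congruent values at `x * c` and `c`. -/
theorem red_char_mul (hM : Cfsg.IsPModular p M) (χ : IrrCharacter G) {x c : G} {k : ℕ}
    (hx : orderOf x = p ^ k) (hc : Commute x c) :
    red M ⟨(χ : G → ℂ) (x * c), memLocalRing_char χ _⟩ =
      red M ⟨(χ : G → ℂ) c, memLocalRing_char χ _⟩ := by
  haveI := charP_res hM
  have key : ∀ g : G, red M ⟨(χ : G → ℂ) g, memLocalRing_char χ _⟩ ^ (p ^ k) =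
      red M ⟨(χ : G → ℂ) (g ^ (p ^ k)), memLocalRing_char χ _⟩ := by
    intro g
    obtain ⟨n, ρ, -, hρ⟩ := χ.2
    obtain ⟨μ, hμ, hj, -⟩ := Characters.exists_eigenvalues ρ g
    have hint : ∀ i, IsIntegral ℤ (μ i) := fun i =>
      IsIntegral.of_pow (orderOf_pos g) (by rw [hμ i]; exact isIntegral_one)
    let ν : Fin (Module.finrank ℂ (Fin n → ℂ)) → localRing M :=
      fun i => ⟨μ i, memLocalRing_of_isIntegral (hint i)⟩
    have e1 : (⟨(χ : G → ℂ) g, memLocalRing_char χ _⟩ : localRing M) = ∑ i, ν i := by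
      refine Subtype.ext ?_
      have := hj 1
      simp only [pow_one] at this
      simp [← hρ, this, ν]
    have e2 : (⟨(χ : G → ℂ) (g ^ (p ^ k)), memLocalRing_char χ _⟩ : localRing M) =
        ∑ i, ν i ^ (p ^ k) := by
      refine Subtype.ext ?_
      simp [← hρ, hj, ν]
    rw [e1, e2, map_sum, map_sum, sum_pow_char_pow]
    simp [map_pow]
  refine iterateFrobenius_inj (Res M) p k ?_
  rw [iterateFrobenius_def, iterateFrobenius_def, key, key]
  congr 2
  rw [hc.mul_pow, ← hx, pow_orderOf_eq_one, one_mul]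

end CfsgLib.BlockDegrees
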