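import Cfsg.Agent.BlockDegrees.Regular
import Cfsg.Agent.Characters.BrauerInduction
import Cfsg.Agent.OddOrderChar.Induced
import Mathlib.GroupTheory.SchurZassenhaus

/-!
# The function `p^a` on p-regular elements

It is a generalized character, and its products with irreducible characters have integral
multiplicities with controlled p-parts.
-/

set_option autoImplicit false
set_option linter.style.haveILetI false
set_option linter.unusedSectionVars false

namespace CfsgLib.BlockDegrees

open Cfsg CfsgLib.Blocks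
open scoped ComplexConjugate

universe u

variable {G : Type u} [Group G] [Fintype G] {M : Ideal AlgInt} [M.IsPrime] {p : ℕ}

/-- An elementary group has a normal subgroup of p-power index and order prime to p. -/
theorem exists_normal_pComplement_of_elementary (hp : p.Prime) {E : Type u} [Group E] [Finite E]
    {q : ℕ} (hq : q.Prime) (hE : Cfsg.IsElementary q E) :
    ∃ Q : Subgroup E, Q.Normal ∧ ¬ p ∣ Nat.card Q ∧ ∃ n, Q.index = p ^ n := by
  haveI := Fact.mk hp
  obtain ⟨x, hx, hcop, k, hk⟩ := hE
  set X := Subgroup.zpowers x with hX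
  have hXc : X ≤ Subgroup.center E := Subgroup.zpowers_le.2 hx
  have hXn : X.Normal := ⟨fun a ha g => by
    rw [Subgroup.mem_center_iff.1 (hXc ha) g, mul_inv_cancel_right]; exact ha⟩
  have hcard : Nat.card X = orderOf x := Nat.card_zpowers x
  rcases eq_or_ne q p with rfl | hne
  · refine ⟨X, hXn, fun h => ?_, k, hk⟩
    exact hq.not_dvd_one (Nat.Coprime.eq_one_of_dvd hcop.symm (hcard ▸ h) ▸ dvd_rfl)
  · obtain ⟨P⟩ : Nonempty (Sylow p X) := inferInstance
    set P' : Subgroup E := (P : Subgroup X).map X.subtype with hP'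
    have hPX : P' ≤ X := Subgroup.map_subtype_le _
    have hcardP : Nat.card P' = Nat.card (P : Subgroup X) :=
      Nat.card_congr (((P : Subgroup X).equivMapOfInjective _ X.subtype_injective).toEquiv).symm
    obtain ⟨j, hj⟩ := IsPGroup.iff_card.1 P.isPGroup'
    have hindex : ¬ p ∣ P'.index := by
      have h1 : (P : Subgroup X).index * X.index = P'.index := by
        refine Nat.eq_of_mul_eq_mul_left (Nat.card_pos (α := P')) ?_
        rw [Subgroup.card_mul_index, ← mul_assoc, hcardP, Subgroup.card_mul_index,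
          Subgroup.card_mul_index]
      rw [← h1, hk, hp.dvd_mul, not_or]
      exact ⟨P.not_dvd_index, fun h => hne ((Nat.prime_dvd_prime_iff_eq hp hq).1
        (hp.dvd_of_dvd_pow h)).symm⟩
    haveI hPn : P'.Normal := ⟨fun a ha g => by
      rw [Subgroup.mem_center_iff.1 (hXc (hPX ha)) g, mul_inv_cancel_right]; exact ha⟩
    have hco : Nat.Coprime (Nat.card P') P'.index := by
      rw [hcardP, hj]
      exact Nat.Coprime.pow_left _ ((Nat.Prime.coprime_iff_not_dvd hp).2 hindex)
    obtain ⟨H, hH⟩ := Subgroup.exists_right_complement'_of_coprime hco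
    have hHn : H.Normal := ⟨fun a ha g => by
      obtain ⟨⟨u, v⟩, huv, -⟩ := Subgroup.isComplement_iff_existsUnique.1 hH g
      have hu := Subgroup.mem_center_iff.1 (hXc (hPX u.2))
      have hva : (v : E) * a * (v : E)⁻¹ ∈ H := H.mul_mem (H.mul_mem v.2 ha) (H.inv_mem v.2)
      rw [← huv, show ((u : E) * v) * a * ((u : E) * v)⁻¹ = (u : E) * ((v : E) * a * (v : E)⁻¹) *
        (u : E)⁻¹ by group, ← hu, mul_inv_cancel_right]
      exact hva⟩
    refine ⟨H, hHn, ?_, j, ?_⟩
    · rw [← hH.symm.index_eq_card]; exact hindex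
    · rw [hH.index_eq_card, hcardP, hj]

theorem mem_iff_not_dvd_orderOf (hp : p.Prime) {E : Type u} [Group E] [Finite E] {Q : Subgroup E}
    [Q.Normal] (hQ : ¬ p ∣ Nat.card Q) {n : ℕ} (hn : Q.index = p ^ n) (e : E) :
    e ∈ Q ↔ ¬ p ∣ orderOf e := by
  refine ⟨fun he h => hQ (h.trans (Subgroup.orderOf_dvd_natCard _ he)), fun h => ?_⟩
  rw [← QuotientGroup.eq_one_iff, ← orderOf_eq_one_iff]
  refine Nat.eq_one_of_dvd_coprimes (k := orderOf (e : E ⧸ Q)) ?_
    (orderOf_map_dvd (QuotientGroup.mk' Q) e) (orderOf_dvd_natCard _)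
  rw [← Subgroup.index_eq_card, hn]
  exact Nat.Coprime.pow_right _ ((Nat.Prime.coprime_iff_not_dvd hp).2 h).symm

/-- The function equal to the p-part of the group order on the p-regular elements. -/
theorem isGen_regular (hp : p.Prime) {χ : G → ℂ} (hχ : Cfsg.IsGeneralizedCharacter G χ) :
    Cfsg.IsGeneralizedCharacter G (fun g => if p ∣ orderOf g then 0 else
      ((p ^ (Nat.card G).factorization p : ℕ) : ℂ) * χ g) := by
  classical
  refine Characters.isGen_of_elementary (fun g h => ?_) fun E q hq hE => ?_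
  · simp only [show h * g * h⁻¹ = MulAut.conj h g from rfl, MulEquiv.orderOf_eq]
    rw [show MulAut.conj h g = h * g * h⁻¹ from rfl, Characters.isClassFunction_of_isGen hχ g h]
  obtain ⟨Q, hQn, hQ, n, hn⟩ := exists_normal_pComplement_of_elementary hp hq hE
  haveI := hQn
  haveI := Fintype.ofFinite E
  haveI := Fintype.ofFinite Q
  have hle : n ≤ (Nat.card G).factorization p := by
    rw [← Nat.Prime.pow_dvd_iff_le_factorization hp Nat.card_pos.ne', ← hn]
    exact (Subgroup.index_dvd_card Q).trans E.card_subgroup_dvd_card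
  have e : (fun e : E => if p ∣ orderOf (e : G) then (0 : ℂ) else
      ((p ^ (Nat.card G).factorization p : ℕ) : ℂ) * χ e) =
      (((p ^ ((Nat.card G).factorization p - n) : ℕ) : ℤ) : ℂ) •
        (Cfsg.indFun Q (fun _ => (1 : ℂ)) * fun e : E => χ e) := by
    funext e
    simp only [Pi.smul_apply, Pi.mul_apply, Subgroup.orderOf_coe, smul_eq_mul]
    by_cases he : e ∈ Q
    · have h1 := OddOrderChar.indFun_normal_apply Q (fun _ => (1 : ℂ)) ⟨e, he⟩
      simp only [OddOrderChar.conjBy, Finset.sum_const, Finset.card_univ,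
        ← Nat.card_eq_fintype_card, nsmul_eq_mul, mul_one] at h1
      rw [if_neg ((mem_iff_not_dvd_orderOf hp hQ hn e).1 he), h1, ← Subgroup.index_mul_card Q, hn]
      push_cast
      rw [mul_comm ((p : ℂ) ^ n), inv_mul_cancel_left₀ (Nat.cast_ne_zero.2 Nat.card_pos.ne'),
        ← mul_assoc, ← pow_add, Nat.sub_add_cancel hle]
    · rw [if_pos (not_not.1 fun h => he ((mem_iff_not_dvd_orderOf hp hQ hn e).2 h)),
        OddOrderChar.indFun_normal_eq_zero Q _ he, zero_mul, mul_zero]
  rw [e]
  exact Characters.isGen_zsmul (Characters.isGen_mul (Characters.isGen_indFun Q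
    Characters.isGen_one) (Characters.isGen_restrict E hχ)) _

theorem classInner_regular_eq (p : ℕ) (c : ℂ) (χ ξ : IrrCharacter G) [M.IsPrime] :
    Cfsg.classInner (fun g => if p ∣ orderOf g then 0 else c * (χ : G → ℂ) g) (ξ : G → ℂ) =
      c * (ξ : G → ℂ) 1 / (Nat.card G : ℂ) * omega ξ (toC M (regElt M p χ)) := by
  rw [classInner_regular, ← omega_regElt (M := M) χ ξ]
  ring

theorem isIntegral_omega_regElt (χ ξ : IrrCharacter G) :
    IsIntegral ℤ (omega ξ (toC M (regElt M p χ))) := by
  classical
  haveI := Fintype.ofFinite (ConjClasses G)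
  rw [eq_sum_classSum (toC M (regElt M p χ)), map_sum]
  refine IsIntegral.sum _ fun C _ => ?_
  rw [map_mul, omega_scalar]
  refine IsIntegral.mul ?_ (isIntegral_omega_classSum ξ C)
  obtain ⟨g, rfl⟩ := ConjClasses.mk_surjective C
  rw [classCoeff_mk]
  simp only [regElt, toC, coeff_mapCtr, coeff_ofFun]
  split_ifs
  · simpa using isIntegral_zero
  · exact Characters.gen_isIntegral (Characters.isGen_of_isIrr χ.2) _

end CfsgLib.BlockDegrees
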