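import Cfsg.Agent.S0867
import Cfsg.Agent.BlocksCharsC.InvariantIrr
import Cfsg.Agent.CharactersDeep.Gallagher
import Cfsg.Agent.CharactersDeep.LinearChar
import Cfsg.Agent.Blocks.Height
import Cfsg.Agent.Transfer.Residual

/-!
# Degrees and the p-residual

The squares of the degrees of the characters with degree and determinantal order prime to `p` add
up to the order of the p-residual modulo `p`.
-/

set_option autoImplicit false
set_option linter.style.haveILetI false
set_option linter.unusedSectionVars false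

namespace CfsgLib.BlockDegrees.Residual

open Cfsg CfsgLib.Blocks CfsgLib.BlocksCharsC CfsgLib.CharactersDeep.Gallagher
open scoped ComplexConjugate Pointwise

universe u

variable {G : Type u} [Group G] [Fintype G] {p : ℕ} [hp : Fact p.Prime]

theorem pow_pprime_eq_one {g : G} (hg : Nat.Coprime (orderOf g) p) :
    g ^ (Nat.card G / p ^ (Nat.card G).factorization p) = 1 :=
  orderOf_dvd_iff_pow_eq_one.1 (Nat.Coprime.dvd_of_dvd_mul_left (Nat.Coprime.pow_right _ hg)
    (by rw [Nat.mul_div_cancel' (Nat.ordProj_dvd _ _)]; exact orderOf_dvd_natCard g))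

theorem hom_residual_pow (f : Cfsg.pResidual p G →* ℂˣ) :
    f ^ (Nat.card G / p ^ (Nat.card G).factorization p) = 1 := by
  set o := Nat.card G / p ^ (Nat.card G).factorization p with ho
  let S : Subgroup G := ((powMonoidHom o).comp f).ker.map (Cfsg.pResidual p G).subtype
  have hS : Cfsg.pResidual p G ≤ S := by
    refine (Subgroup.closure_le S).2 fun g hg => ?_
    refine ⟨⟨g, Transfer.mem_pResidual_of_coprime hg⟩, MonoidHom.mem_ker.2 ?_, rfl⟩
    show f ⟨g, _⟩ ^ o = 1
    rw [← map_pow, show (⟨g, _⟩ : Cfsg.pResidual p G) ^ o = 1 from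
      Subtype.ext (pow_pprime_eq_one hg), map_one]
  refine MonoidHom.ext fun n => ?_
  obtain ⟨m, hm, hmn⟩ := hS n.2
  obtain rfl : m = n := Subgroup.subtype_injective _ hmn
  rw [MonoidHom.pow_apply, MonoidHom.one_apply]
  exact MonoidHom.mem_ker.1 hm

theorem detOrder_residual (θ : IrrCharacter (Cfsg.pResidual p G)) :
    ¬ p ∣ Cfsg.detOrder (θ : Cfsg.pResidual p G → ℂ) := by
  obtain ⟨n, ρ, -, e⟩ := θ.2
  rw [← e, CharactersDeep.LinearChar.detOrder_eq]
  intro h
  exact Nat.not_dvd_ordCompl hp.out Nat.card_pos.ne'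
    (h.trans (orderOf_dvd_of_pow_eq_one (hom_residual_pow _)))

/-- The invariance condition. -/
def Inv (N : Subgroup G) [hN : N.Normal] (θ : IrrCharacter N) : Prop :=
  ∀ (g : G) (n : N), (θ : N → ℂ) ⟨g * n * g⁻¹, hN.conj_mem n n.2 g⟩ = (θ : N → ℂ) n

theorem charDegree_eq_of_restrict (N : Subgroup G) {χ : IrrCharacter G} {θ : IrrCharacter N}
    (h : ∀ n : N, (χ : G → ℂ) n = (θ : N → ℂ) n) :
    Cfsg.charDegree (χ : G → ℂ) = Cfsg.charDegree (θ : N → ℂ) := by
  haveI := Fintype.ofFinite N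
  apply Nat.cast_injective (R := ℂ)
  rw [charDegree_cast χ, charDegree_cast θ]
  exact h 1

theorem exists_ext (N : Subgroup G) [hN : N.Normal] {θ : IrrCharacter N} (hinv : Inv N θ)
    (hcop : Nat.Coprime N.index (Cfsg.detOrder (θ : N → ℂ) * Cfsg.charDegree (θ : N → ℂ))) :
    ∃ χ : IrrCharacter G, (∀ n : N, (χ : G → ℂ) n = (θ : N → ℂ) n) ∧
      Cfsg.detOrder (χ : G → ℂ) = Cfsg.detOrder (θ : N → ℂ) ∧
      ∀ χ' : IrrCharacter G, (∀ n : N, (χ' : G → ℂ) n = (θ : N → ℂ) n) →
        Nat.Coprime N.index (Cfsg.detOrder (χ' : G → ℂ)) → χ' = χ := by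
  haveI := Fintype.ofFinite N
  obtain ⟨χ, ⟨hχ, hres, ho⟩, huniq⟩ := Cfsg.Agent.S0867.result N (θ : N → ℂ) θ.2 hinv
    (Cfsg.charDegree (θ : N → ℂ)) (charDegree_cast θ).symm hcop
  exact ⟨⟨χ, hχ⟩, hres, ho, fun χ' h1 h2 => Subtype.ext (huniq _ χ'.2 h1 h2)⟩

open Classical in
theorem modEq_card_residual :
    (p : ℤ) ∣ (Nat.card (Cfsg.pResidual p G) : ℤ) -
      ∑ χ : IrrCharacter G, if ¬ p ∣ Cfsg.charDegree (χ : G → ℂ) ∧
        ¬ p ∣ Cfsg.detOrder (χ : G → ℂ) then (Cfsg.charDegree (χ : G → ℂ) : ℤ) ^ 2 else 0 := by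
  set N := Cfsg.pResidual p G with hN
  haveI hNn : N.Normal := inferInstanceAs (Cfsg.pResidual p G).Normal
  haveI := Fintype.ofFinite N
  obtain ⟨P⟩ : Nonempty (Sylow p G) := inferInstance
  let Pg : Subgroup G := (P : Subgroup G)
  letI : MulAction G (IrrCharacter N) := irrConjAction N
  letI : MulAction Pg (IrrCharacter N) := MulAction.compHom _ Pg.subtype
  have hsup : N ⊔ Pg = ⊤ := by
    rw [sup_comm]; exact Transfer.sylow_sup_pResidual P
  obtain ⟨k, hk⟩ := Transfer.exists_index_pResidual_eq_pow (p := p) (G := G)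
  have hidx : ∀ m : ℕ, ¬ p ∣ m → Nat.Coprime N.index m := fun m hm => by
    rw [hk]; exact Nat.Coprime.pow_left _ ((Nat.Prime.coprime_iff_not_dvd hp.out).2 hm)
  have hfix : ∀ θ : IrrCharacter N,
      θ ∈ MulAction.fixedPoints Pg (IrrCharacter N) ↔ Inv N θ := by
    intro θ
    constructor
    · intro h g n
      have hg : g ∈ ((N : Set G) * (Pg : Set G) : Set G) := by
        rw [← Subgroup.normal_mul, hsup]; trivial
      obtain ⟨a, ha, y, hy, rfl⟩ := hg
      have h1 := congrFun (congrArg Subtype.val (h ⟨y⁻¹, Pg.inv_mem hy⟩)) n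
      rw [← h1]
      refine Eq.trans ?_ (Characters.isClassFunction_of_isIrr θ.2 _ ⟨a, ha⟩)
      refine congrArg (θ : N → ℂ) (Subtype.ext ?_)
      exact (show (a * y) * (n : G) * (a * y)⁻¹ = a * (y⁻¹⁻¹ * n * y⁻¹) * a⁻¹ by group)
    · intro h g
      refine Subtype.ext (funext fun n => ?_)
      refine Eq.trans ?_ (h (g : G)⁻¹ n)
      exact congrArg (θ : N → ℂ) (Subtype.ext
        (show (g : G)⁻¹ * n * g = (g : G)⁻¹ * n * (g : G)⁻¹⁻¹ by rw [inv_inv]))
  have hdegP : ∀ (g : Pg) (θ : IrrCharacter N),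
      Cfsg.charDegree ((g • θ : IrrCharacter N) : N → ℂ) = Cfsg.charDegree (θ : N → ℂ) :=
    fun g θ => congrArg (fun z : ℂ => ⌊z.re⌋₊) (congrArg (θ : N → ℂ) (Subtype.ext
      (show (g : G)⁻¹ * ((1 : N) : G) * g = ((1 : N) : G) by simp)))
  have h1 := dvd_sum_sub_sum_fixed (R := ℤ) P.isPGroup'
    (fun θ : IrrCharacter N => (Cfsg.charDegree (θ : N → ℂ) : ℤ) ^ 2)
    fun g θ => by rw [hdegP]
  have hNsum : ∑ θ : IrrCharacter N, (Cfsg.charDegree (θ : N → ℂ) : ℤ) ^ 2 = Nat.card N := by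
    have := Characters.sum_degree_sq (G := N)
    simp only [← charDegree_cast] at this
    exact_mod_cast this
  rw [hNsum] at h1
  have h2 : (p : ℤ) ∣ ∑ θ ∈ Finset.univ.filter
      (fun θ : IrrCharacter N => θ ∈ MulAction.fixedPoints Pg (IrrCharacter N)),
      (Cfsg.charDegree (θ : N → ℂ) : ℤ) ^ 2 - ∑ θ : IrrCharacter N,
        if Inv N θ ∧ ¬ p ∣ Cfsg.charDegree (θ : N → ℂ) then
          (Cfsg.charDegree (θ : N → ℂ) : ℤ) ^ 2 else 0 := by
    rw [Finset.sum_filter, ← Finset.sum_sub_distrib]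
    refine Finset.dvd_sum fun θ _ => ?_
    simp only [hfix]
    by_cases hi : Inv N θ
    · rw [if_pos hi]
      by_cases hd : p ∣ Cfsg.charDegree (θ : N → ℂ)
      · rw [if_neg fun h => h.2 hd, sub_zero]
        exact dvd_pow (Int.natCast_dvd_natCast.2 hd) two_ne_zero
      · rw [if_pos ⟨hi, hd⟩, sub_self]; exact dvd_zero _
    · rw [if_neg hi, if_neg fun h => hi h.1, sub_zero]; exact dvd_zero _
  -- every such character of `G` restricts to an invariant character of degree prime to `p`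
  have hres : ∀ χ : IrrCharacter G, ¬ p ∣ Cfsg.charDegree (χ : G → ℂ) →
      ∃ θ : IrrCharacter N, Inv N θ ∧ ¬ p ∣ Cfsg.charDegree (θ : N → ℂ) ∧
        ∀ n : N, (χ : G → ℂ) n = (θ : N → ℂ) n := by
    intro χ hdeg
    haveI := Fintype.ofFinite (G ⧸ N)
    choose m hm using fun θ : IrrCharacter N => Characters.classInner_character_irr
      (Characters.isCharacter_restrict N (Characters.isCharacter_of_isIrr χ.2)) θ.2
    have hsum : (Cfsg.charDegree (χ : G → ℂ) : ℤ) =
        ∑ θ : IrrCharacter N, (m θ : ℤ) * Cfsg.charDegree (θ : N → ℂ) := by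
      have h := congrFun (Characters.classFunction_expansion
        (Characters.isClassFunction_of_isCharacter
          (Characters.isCharacter_restrict N (Characters.isCharacter_of_isIrr χ.2)))) 1
      simp only [Finset.sum_apply, Pi.smul_apply, smul_eq_mul, hm, OneMemClass.coe_one,
        ← charDegree_cast] at h
      exact_mod_cast h
    have hmP : ∀ (g : Pg) (θ : IrrCharacter N),
        (m (g • θ) : ℤ) * Cfsg.charDegree ((g • θ : IrrCharacter N) : N → ℂ) =
          m θ * Cfsg.charDegree (θ : N → ℂ) := by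
      intro g θ
      have h2 : m (g • θ) = m θ := by
        rw [← Nat.cast_inj (R := ℂ), ← hm, ← hm]
        simp only [Cfsg.classInner]
        congr 1
        let τ : N → N := fun n => ⟨(g : G)⁻¹ * n * g, by simpa using hNn.conj_mem _ n.2 (g : G)⁻¹⟩
        have hτ : Function.Bijective τ := Finite.injective_iff_bijective.1 fun a b h =>
          Subtype.ext (mul_left_cancel (mul_right_cancel (congrArg Subtype.val h)))
        refine Fintype.sum_bijective τ hτ _ _ fun n => ?_
        have e := Characters.isClassFunction_of_isIrr χ.2 (n : G) (g : G)⁻¹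
        rw [inv_inv] at e
        show (χ : G → ℂ) n * conj ((θ : N → ℂ) (τ n)) =
          (χ : G → ℂ) (τ n) * conj ((θ : N → ℂ) (τ n))
        exact congrArg (· * _) e.symm
      rw [h2, hdegP]
    obtain ⟨θ, hθfix, hθm⟩ : ∃ θ : IrrCharacter N, θ ∈ MulAction.fixedPoints Pg (IrrCharacter N) ∧
        ¬ (p : ℤ) ∣ (m θ : ℤ) * Cfsg.charDegree (θ : N → ℂ) := by
      by_contra hnone
      push Not at hnone
      have h := dvd_sum_sub_sum_fixed (R := ℤ) P.isPGroup'
        (fun θ : IrrCharacter N => (m θ : ℤ) * Cfsg.charDegree (θ : N → ℂ)) hmP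
      have h3 := dvd_add h (Finset.dvd_sum (f := fun θ : IrrCharacter N =>
        (m θ : ℤ) * Cfsg.charDegree (θ : N → ℂ)) (s := Finset.univ.filter
        (fun θ : IrrCharacter N => θ ∈ MulAction.fixedPoints Pg (IrrCharacter N)))
        fun θ hθ => hnone θ (Finset.mem_filter.1 hθ).2)
      rw [sub_add_cancel, ← hsum] at h3
      exact hdeg (Int.natCast_dvd_natCast.1 h3)
    have hinv := (hfix θ).1 hθfix
    have hθd : ¬ p ∣ Cfsg.charDegree (θ : N → ℂ) := fun h =>
      hθm (Dvd.dvd.mul_left (Int.natCast_dvd_natCast.2 h) _)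
    refine ⟨θ, hinv, hθd, ?_⟩
    obtain ⟨χ₀, hχ₀, -, -⟩ := exists_ext N hinv (hidx _ fun h =>
      ((Nat.Prime.dvd_mul hp.out).1 h).elim (detOrder_residual θ) hθd)
    have hne : Cfsg.classInner (fun n : N => (χ : G → ℂ) n) (fun n : N => (χ₀ : G → ℂ) n) ≠ 0 := by
      simp only [hχ₀]
      rw [hm θ, Nat.cast_ne_zero]
      exact fun h => hθm (by simp [h])
    obtain ⟨β, hβ, hχ⟩ := exists_eq_prodInfl N χ₀.2 (by simpa only [hχ₀] using θ.2) χ.2 hne
    set β' : IrrCharacter (G ⧸ N) := ⟨β, hβ⟩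
    have hdd : Cfsg.charDegree (χ : G → ℂ) =
        Cfsg.charDegree (χ₀ : G → ℂ) * Cfsg.charDegree (β' : G ⧸ N → ℂ) := by
      apply Nat.cast_injective (R := ℂ)
      push_cast
      rw [charDegree_cast, charDegree_cast, charDegree_cast, hχ, prodInfl, QuotientGroup.mk_one]
    have hβd := charDegree_dvd_card β'
    rw [← Subgroup.index_eq_card, hk] at hβd
    obtain ⟨j, -, hj⟩ := (Nat.dvd_prime_pow hp.out).1 hβd
    have hβ1 : β 1 = 1 := by
      rcases Nat.eq_zero_or_pos j with rfl | hj0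
      · rw [show β 1 = (β' : G ⧸ N → ℂ) 1 from rfl, ← charDegree_cast, hj, pow_zero,
          Nat.cast_one]
      · exact absurd (hdd ▸ Dvd.dvd.mul_left (hj ▸ dvd_pow_self p hj0.ne') _) hdeg
    intro n
    rw [hχ, prodInfl, (QuotientGroup.eq_one_iff (n : G)).2 n.2, hβ1, mul_one, hχ₀]
  have h3 : ∑ χ : IrrCharacter G, (if ¬ p ∣ Cfsg.charDegree (χ : G → ℂ) ∧
      ¬ p ∣ Cfsg.detOrder (χ : G → ℂ) then (Cfsg.charDegree (χ : G → ℂ) : ℤ) ^ 2 else 0) =
      ∑ θ : IrrCharacter N, if Inv N θ ∧ ¬ p ∣ Cfsg.charDegree (θ : N → ℂ) then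
        (Cfsg.charDegree (θ : N → ℂ) : ℤ) ^ 2 else 0 := by
    rw [← Finset.sum_filter, ← Finset.sum_filter]
    choose F hFinv hFdeg hFres using hres
    refine Finset.sum_bij (fun χ hχ => F χ (Finset.mem_filter.1 hχ).2.1) (fun χ hχ => ?_)
      (fun χ hχ χ' hχ' he => ?_) (fun θ hθ => ?_) fun χ hχ => ?_
    · exact Finset.mem_filter.2 ⟨Finset.mem_univ _, hFinv χ _, hFdeg χ _⟩
    · obtain ⟨χ₀, -, -, huniq⟩ := exists_ext N (hFinv χ (Finset.mem_filter.1 hχ).2.1)
        (hidx _ fun h => ((Nat.Prime.dvd_mul hp.out).1 h).elim (detOrder_residual _) (hFdeg χ _))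
      rw [huniq χ (hFres χ _) (hidx _ (Finset.mem_filter.1 hχ).2.2),
        huniq χ' (fun n => by rw [hFres χ' (Finset.mem_filter.1 hχ').2.1 n, ← he])
          (hidx _ (Finset.mem_filter.1 hχ').2.2)]
    · have hθ' := (Finset.mem_filter.1 hθ).2
      obtain ⟨χ, hχres, hχo, -⟩ := exists_ext N hθ'.1
        (hidx _ fun h => ((Nat.Prime.dvd_mul hp.out).1 h).elim (detOrder_residual θ) hθ'.2)
      have hd := charDegree_eq_of_restrict N hχres
      refine ⟨χ, Finset.mem_filter.2 ⟨Finset.mem_univ _, by rw [hd]; exact hθ'.2,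
        by rw [hχo]; exact detOrder_residual θ⟩, ?_⟩
      exact Subtype.ext (funext fun n => by rw [← hFres χ _ n, hχres n])
    · exact congrArg (fun d : ℕ => (d : ℤ) ^ 2) (charDegree_eq_of_restrict N (hFres χ _))
  rw [h3]
  have := dvd_add h1 h2
  rwa [sub_add_sub_cancel] at this

/-- Thompson: `p` divides every nonlinear degree only if there is a normal p-complement. -/
theorem not_dvd_card_residual
    (hdeg : ∀ χ : IrrCharacter G, Cfsg.charDegree (χ : G → ℂ) ≠ 1 →
      p ∣ Cfsg.charDegree (χ : G → ℂ)) : ¬ p ∣ Nat.card (Cfsg.pResidual p G) := by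
  classical
  intro hdvd
  haveI : Finite (G →* ℂˣ) := Finite.of_equiv _ (Characters.linearCharEquiv (G := G)).symm
  haveI := Fintype.ofFinite (G →* ℂˣ)
  let S : Subgroup (G →* ℂˣ) :=
    { carrier := {f | ¬ p ∣ orderOf f}
      one_mem' := by
        show ¬ p ∣ orderOf (1 : G →* ℂˣ)
        rw [orderOf_one]; exact hp.out.not_dvd_one
      mul_mem' := fun {a b} ha hb h => by
        rcases (Nat.Prime.dvd_mul hp.out).1 (h.trans ((Commute.all a b).orderOf_mul_dvd_mul_orderOf))
          with h | h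
        · exact ha h
        · exact hb h
      inv_mem' := fun {a} ha => by
        show ¬ p ∣ orderOf a⁻¹
        rwa [show orderOf a⁻¹ = orderOf a from orderOf_inv a] }
  have hS : ¬ p ∣ Nat.card S := fun h => by
    obtain ⟨x, hx⟩ := exists_prime_orderOf_dvd_card' p h
    exact x.2 (by rw [Subgroup.orderOf_coe, hx])
  refine hS ?_
  have h := modEq_card_residual (G := G) (p := p)
  have hsum : (∑ χ : IrrCharacter G, if ¬ p ∣ Cfsg.charDegree (χ : G → ℂ) ∧
      ¬ p ∣ Cfsg.detOrder (χ : G → ℂ) then (Cfsg.charDegree (χ : G → ℂ) : ℤ) ^ 2 else 0) =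
      (Nat.card S : ℤ) := by
    rw [Nat.card_congr (Equiv.subtypeEquivRight fun f : G →* ℂˣ =>
      (Iff.rfl : f ∈ S ↔ ¬ p ∣ orderOf f)), Nat.card_eq_fintype_card, Fintype.card_subtype,
      ← Finset.sum_boole, ← Finset.sum_filter, ← Finset.sum_filter]
    have hdet : ∀ f : G →* ℂˣ, Cfsg.detOrder ((((Characters.linearCharEquiv f :
        {χ : IrrCharacter G // (χ : G → ℂ) 1 = 1}) : IrrCharacter G)) : G → ℂ) = orderOf f := by
      intro f
      show Cfsg.detOrder (fun g => (f g : ℂ)) = _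
      rw [← CharactersDeep.LinearChar.lineRep_character f, CharactersDeep.LinearChar.detOrder_eq]
      congr 1
      refine MonoidHom.ext fun g => Units.ext ?_
      rw [CharactersDeep.LinearChar.detHom_apply]
      show LinearMap.det ((f g : ℂ) • LinearMap.id : (Fin 1 → ℂ) →ₗ[ℂ] Fin 1 → ℂ) = _
      simp [LinearMap.det_smul]
    have hone : ∀ χ : IrrCharacter G, ¬ p ∣ Cfsg.charDegree (χ : G → ℂ) →
        Cfsg.charDegree (χ : G → ℂ) = 1 := fun χ hχ => not_not.1 fun h => hχ (hdeg χ h)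
    symm
    refine Finset.sum_bij (fun f _ => ((Characters.linearCharEquiv f :
      {χ : IrrCharacter G // (χ : G → ℂ) 1 = 1}) : IrrCharacter G)) (fun f hf => ?_)
      (fun a _ b _ he => Characters.linearCharEquiv.injective (Subtype.ext he))
      (fun χ hχ => ?_) fun f hf => ?_
    · have h1 := (Characters.linearCharEquiv f).2
      rw [← charDegree_cast, Nat.cast_eq_one] at h1
      refine Finset.mem_filter.2 ⟨Finset.mem_univ _, ?_, ?_⟩
      · rw [h1]; exact hp.out.not_dvd_one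
      · rw [hdet]; exact (Finset.mem_filter.1 hf).2
    · have hχ' := (Finset.mem_filter.1 hχ).2
      have h1 : (χ : G → ℂ) 1 = 1 := by rw [← charDegree_cast, hone χ hχ'.1, Nat.cast_one]
      refine ⟨Characters.linearCharEquiv.symm ⟨χ, h1⟩, Finset.mem_filter.2 ⟨Finset.mem_univ _, ?_⟩,
        by simp⟩
      have := hdet (Characters.linearCharEquiv.symm ⟨χ, h1⟩)
      rw [Equiv.apply_symm_apply] at this
      show ¬ p ∣ orderOf _
      rw [← this]
      exact hχ'.2
    · have h1 := (Characters.linearCharEquiv f).2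
      rw [← charDegree_cast, Nat.cast_eq_one] at h1
      rw [h1]
      norm_num
  rw [hsum] at h
  have h2 := dvd_sub (Int.natCast_dvd_natCast.2 hdvd) h
  rw [sub_sub_cancel] at h2
  exact Int.natCast_dvd_natCast.1 h2

end CfsgLib.BlockDegrees.Residual
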